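import Mathlib.RepresentationTheory.Basic
import Mathlib.LinearAlgebra.FiniteDimensional.Lemmas
import Mathlib.LinearAlgebra.Determinant
import Mathlib.GroupTheory.Abelianization.Defs
import Mathlib.Tactic

/-!
An element `b` of order three acting on a space over `ZMod 3` with `(b - 1)` of rank two and
`(b - 1)²` of rank one: moved spaces, and four-groups moved by `b`.
-/

set_option autoImplicit false
set_option linter.unusedSectionVars false

namespace Cfsg.Agent.CubicThree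

open Subgroup Module
open scoped commutatorElement

attribute [local instance] Fintype.ofFinite

variable {S : Type*} [Group S] [Finite S] {E : Type*} [AddCommGroup E] [Module (ZMod 3) E]
  [Finite E] (ρ : Representation (ZMod 3) S E)

theorem three_eq_zero (v : E) : v + v + v = 0 := by
  rw [show v + v + v = (3 : ZMod 3) • v by module, show (3 : ZMod 3) = 0 by decide, zero_smul]

theorem neg_eq_add (v : E) : -v = v + v := by
  rw [neg_eq_iff_add_eq_zero, ← add_assoc, three_eq_zero]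

theorem rho_inv_apply (g : S) (v : E) : ρ g⁻¹ (ρ g v) = v := by
  rw [← Module.End.mul_apply, ← map_mul, inv_mul_cancel, map_one, Module.End.one_apply]

theorem rho_apply_inv (g : S) (v : E) : ρ g (ρ g⁻¹ v) = v := by
  rw [← Module.End.mul_apply, ← map_mul, mul_inv_cancel, map_one, Module.End.one_apply]

theorem rho_mul (g h : S) (v : E) : ρ (g * h) v = ρ g (ρ h v) := by
  rw [map_mul, Module.End.mul_apply]

theorem rho_one (v : E) : ρ 1 v = v := by rw [map_one, Module.End.one_apply]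

theorem eq_of_rho (hf : Function.Injective ρ) {g h : S} (hgh : ∀ v, ρ g v = ρ h v) : g = h :=
  hf (LinearMap.ext hgh)

/-- The elements acting trivially on `E ⧸ W`. -/
def Triv (W : Submodule (ZMod 3) E) : Subgroup S where
  carrier := {g | ∀ v, ρ g v - v ∈ W}
  one_mem' v := by simp [rho_one]
  mul_mem' {g h} hg hh v := by
    rw [rho_mul, ← sub_add_sub_cancel (ρ g (ρ h v)) (ρ h v) v]
    exact add_mem (hg _) (hh v)
  inv_mem' {g} hg v := by
    have h := W.neg_mem (hg (ρ g⁻¹ v))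
    rwa [rho_apply_inv, neg_sub] at h

variable {ρ}

theorem mem_triv {W : Submodule (ZMod 3) E} {g : S} : g ∈ Triv ρ W ↔ ∀ v, ρ g v - v ∈ W := Iff.rfl

theorem triv_mono {W W' : Submodule (ZMod 3) E} (h : W ≤ W') : Triv ρ W ≤ Triv ρ W' :=
  fun _ hg v => h (hg v)

theorem triv_apply_mem {W : Submodule (ZMod 3) E} {g : S} (hg : g ∈ Triv ρ W) {v : E} (hv : v ∈ W) :
    ρ g v ∈ W := by
  have h := add_mem (hg v) hv
  rwa [sub_add_cancel] at h

theorem triv_conj {W : Submodule (ZMod 3) E} {g x : S} (hg : g ∈ Triv ρ W)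
    (hx : ∀ v ∈ W, ρ x v ∈ W) : x * g * x⁻¹ ∈ Triv ρ W := fun v => by
  have h := hx _ (hg (ρ x⁻¹ v))
  rwa [map_sub, rho_apply_inv, ← rho_mul ρ g, ← rho_mul ρ x, ← mul_assoc] at h

/-- An element of order prime to three that is trivial on `W` and on `E ⧸ W` is the identity. -/
theorem eq_one_of_triv (hf : Function.Injective ρ) {W : Submodule (ZMod 3) E} {g : S}
    (h3 : ¬ 3 ∣ orderOf g) (hg : g ∈ Triv ρ W) (hW : ∀ v ∈ W, ρ g v = v) : g = 1 := by
  refine eq_of_rho ρ hf fun v => ?_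
  rw [rho_one]
  have hk : ∀ k : ℕ, ρ (g ^ k) v = v + (k : ZMod 3) • (ρ g v - v) := by
    intro k
    induction k with
    | zero => simp [rho_one]
    | succ k ih =>
      rw [pow_succ', rho_mul, ih, map_add, map_smul, hW _ (hg v)]
      push_cast
      module
  have h := hk (orderOf g)
  rw [pow_orderOf_eq_one, rho_one, left_eq_add, smul_eq_zero] at h
  refine sub_eq_zero.mp (h.resolve_left fun h0 => h3 ?_)
  exact (ZMod.natCast_eq_zero_iff _ _).mp h0

variable (ρ) in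
/-- Averaging over a subgroup. -/
noncomputable def pr (G : Subgroup S) : E →ₗ[ZMod 3] E :=
  ((Nat.card G : ZMod 3))⁻¹ • ∑ g : G, ρ (g : S)

variable (ρ) in
/-- The fixed space of a subgroup. -/
def Fix (G : Subgroup S) : Submodule (ZMod 3) E where
  carrier := {v | ∀ g ∈ G, ρ g v = v}
  zero_mem' g _ := map_zero _
  add_mem' {v w} hv hw g hg := by rw [map_add, hv g hg, hw g hg]
  smul_mem' c v hv g hg := by rw [map_smul, hv g hg]

variable (ρ) in
/-- The moved space of a subgroup of order prime to three. -/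
noncomputable def Mov (G : Subgroup S) : Submodule (ZMod 3) E := LinearMap.ker (pr ρ G)

theorem pr_apply (G : Subgroup S) (v : E) :
    pr ρ G v = ((Nat.card G : ZMod 3))⁻¹ • ∑ g : G, ρ (g : S) v := by
  simp [pr, LinearMap.sum_apply]

theorem card_ne_zero {G : Subgroup S} (h3 : ¬ 3 ∣ Nat.card G) : (Nat.card G : ZMod 3) ≠ 0 :=
  fun h => h3 ((ZMod.natCast_eq_zero_iff _ _).mp h)

theorem pr_fixed {G : Subgroup S} (h3 : ¬ 3 ∣ Nat.card G) {v : E} (hv : v ∈ Fix ρ G) :
    pr ρ G v = v := by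
  rw [pr_apply, Finset.sum_congr rfl fun (g : G) _ => hv (g : S) g.2, Finset.sum_const, Finset.card_univ,
    ← Nat.card_eq_fintype_card, ← Nat.cast_smul_eq_nsmul (ZMod 3), smul_smul,
    inv_mul_cancel₀ (card_ne_zero h3), one_smul]

theorem pr_mem_fix (G : Subgroup S) (v : E) : pr ρ G v ∈ Fix ρ G := by
  intro g hg
  rw [pr_apply, map_smul, map_sum]
  refine congrArg _ (Fintype.sum_equiv (Equiv.mulLeft (⟨g, hg⟩ : G)) _ _ fun x => ?_)
  simp [rho_mul]

theorem pr_rho (G : Subgroup S) {g : S} (hg : g ∈ G) (v : E) : pr ρ G (ρ g v) = pr ρ G v := by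
  rw [pr_apply, pr_apply]
  refine congrArg _ (Fintype.sum_equiv (Equiv.mulRight (⟨g, hg⟩ : G)) _ _ fun x => ?_)
  simp [rho_mul]

theorem le_triv_mov (G : Subgroup S) : G ≤ Triv ρ (Mov ρ G) := fun g hg v => by
  show pr ρ G (ρ g v - v) = 0
  rw [map_sub, pr_rho G hg, sub_self]

theorem sub_pr_mem {G : Subgroup S} (h3 : ¬ 3 ∣ Nat.card G) (v : E) : v - pr ρ G v ∈ Mov ρ G := by
  show pr ρ G _ = 0
  rw [map_sub, pr_fixed h3 (pr_mem_fix G v), sub_self]

theorem eq_zero_of_fix_of_mov {G : Subgroup S} (h3 : ¬ 3 ∣ Nat.card G) {v : E}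
    (hv : v ∈ Fix ρ G) (hv' : v ∈ Mov ρ G) : v = 0 :=
  (pr_fixed h3 hv).symm.trans hv'

theorem pr_mem {G : Subgroup S} {W : Submodule (ZMod 3) E} (hW : ∀ g ∈ G, ∀ w ∈ W, ρ g w ∈ W)
    {w : E} (hw : w ∈ W) : pr ρ G w ∈ W := by
  rw [pr_apply]
  exact W.smul_mem _ (W.sum_mem fun g _ => hW g g.2 w hw)

theorem mov_le {G : Subgroup S} (h3 : ¬ 3 ∣ Nat.card G) {W : Submodule (ZMod 3) E}
    (h : G ≤ Triv ρ W) : Mov ρ G ≤ W := by
  intro v hv
  have e : v = ((Nat.card G : ZMod 3))⁻¹ • ∑ g : G, (v - ρ (g : S) v) := by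
    rw [Finset.sum_sub_distrib, smul_sub, ← pr_apply, show pr ρ G v = 0 from hv, sub_zero,
      Finset.sum_const, Finset.card_univ, ← Nat.card_eq_fintype_card,
      ← Nat.cast_smul_eq_nsmul (ZMod 3), smul_smul, inv_mul_cancel₀ (card_ne_zero h3), one_smul]
  rw [e]
  refine W.smul_mem _ (W.sum_mem fun g _ => ?_)
  rw [← neg_sub]
  exact W.neg_mem (h g.2 v)

theorem mov_mono {G G' : Subgroup S} (h3 : ¬ 3 ∣ Nat.card G) (h : G ≤ G') :
    Mov ρ G ≤ Mov ρ G' :=
  mov_le h3 (h.trans (le_triv_mov G'))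

theorem mov_apply_mem {G : Subgroup S} (h3 : ¬ 3 ∣ Nat.card G) {x : S}
    (hx : ∀ g ∈ G, x * g * x⁻¹ ∈ G) {v : E} (hv : v ∈ Mov ρ G) : ρ x v ∈ Mov ρ G := by
  have h : G ≤ Triv ρ ((Mov ρ G).comap (ρ x)) := fun g hg w => by
    show ρ x (ρ g w - w) ∈ Mov ρ G
    have := le_triv_mov (ρ := ρ) G (hx g hg) (ρ x w)
    rwa [← rho_mul, inv_mul_cancel_right, rho_mul, ← map_sub] at this
  exact mov_le h3 h hv

theorem eq_one_on_mov (hf : Function.Injective ρ) {G : Subgroup S} (h3 : ¬ 3 ∣ Nat.card G) {g : S}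
    (hg : g ∈ G) (h : ∀ v ∈ Mov ρ G, ρ g v = v) : g = 1 :=
  eq_one_of_triv hf (fun h' => h3 (h'.trans (orderOf_dvd_natCard G hg))) (le_triv_mov G hg) h

theorem not_three_dvd_of_le {G G' : Subgroup S} (h : G ≤ G') (h3 : ¬ 3 ∣ Nat.card G') :
    ¬ 3 ∣ Nat.card G :=
  fun h' => h3 (h'.trans (card_dvd_of_le h))

theorem not_three_dvd_two_group {G : Subgroup S} (h : IsPGroup 2 G) : ¬ 3 ∣ Nat.card G := by
  haveI := Fact.mk Nat.prime_two
  obtain ⟨n, hn⟩ := IsPGroup.iff_card.mp h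
  rw [hn]
  intro h'
  have := Nat.Prime.dvd_of_dvd_pow Nat.prime_three h'
  omega

/-! ### The element `b` -/

variable (ρ) in
/-- `b - 1` on `E`. -/
def nb (b : S) : E →ₗ[ZMod 3] E := ρ b - LinearMap.id

@[simp] theorem nb_apply (b : S) (v : E) : nb ρ b v = ρ b v - v := rfl

variable (ρ) in
/-- The standing hypotheses on `b`. -/
structure Cubic (b : S) : Prop where
  pow_three : b ^ 3 = 1
  faith : Function.Injective ρ
  rank_one : finrank (ZMod 3) (LinearMap.range (nb ρ b)) ≤ 2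
  rank_two : finrank (ZMod 3) (LinearMap.range (nb ρ b ∘ₗ nb ρ b)) ≤ 1

theorem mem_range_nb (b : S) (v : E) : ρ b v - v ∈ LinearMap.range (nb ρ b) := ⟨v, rfl⟩

theorem mem_triv_range (b : S) : b ∈ Triv ρ (LinearMap.range (nb ρ b)) := mem_range_nb b

theorem nb_nb_apply (b : S) (v : E) :
    (nb ρ b ∘ₗ nb ρ b) v = v + ρ b v + ρ b (ρ b v) := by
  rw [LinearMap.comp_apply, nb_apply, nb_apply, map_sub, ← sub_eq_zero,
    ← neg_eq_zero, ← three_eq_zero (ρ b v)]
  abel

section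

variable {b : S} (hb : Cubic ρ b)
include hb

theorem rho_b_three (v : E) : ρ b (ρ b (ρ b v)) = v := by
  calc ρ b (ρ b (ρ b v)) = ρ (b ^ 3) v := by simp [pow_succ, rho_mul]
    _ = v := by rw [hb.pow_three, rho_one]

theorem rho_b_sum (v : E) :
    ρ b (v + ρ b v + ρ b (ρ b v)) = v + ρ b v + ρ b (ρ b v) := by
  rw [map_add, map_add, rho_b_three hb]
  abel

theorem nb_three (v : E) : nb ρ b ((nb ρ b ∘ₗ nb ρ b) v) = 0 := by
  rw [nb_nb_apply, nb_apply, rho_b_sum hb, sub_self]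

/-- A `b`-invariant submodule on which `(b - 1)²` is not zero has dimension at least three. -/
theorem three_le_finrank {W : Submodule (ZMod 3) E} (hW : ∀ w ∈ W, ρ b w ∈ W) {a : E} (ha : a ∈ W)
    (he : (nb ρ b ∘ₗ nb ρ b) a ≠ 0) : 3 ≤ finrank (ZMod 3) W := by
  have hn : ∀ w ∈ W, nb ρ b w ∈ W := fun w hw => W.sub_mem (hW w hw) hw
  let v : Fin 3 → W := ![⟨a, ha⟩, ⟨nb ρ b a, hn _ ha⟩, ⟨nb ρ b (nb ρ b a), hn _ (hn _ ha)⟩]
  have hli : LinearIndependent (ZMod 3) v := by
    rw [Fintype.linearIndependent_iff]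
    intro c hc
    rw [Fin.sum_univ_three] at hc
    have hc' : c 0 • a + c 1 • nb ρ b a + c 2 • nb ρ b (nb ρ b a) = 0 := congrArg Subtype.val hc
    have h3 : nb ρ b (nb ρ b (nb ρ b a)) = 0 := nb_three hb a
    have h4 : nb ρ b (nb ρ b a) ≠ 0 := he
    have c0 : c 0 = 0 := by
      have h := congrArg (fun x => nb ρ b (nb ρ b x)) hc'
      simp only [map_add, map_smul, h3, map_zero, smul_zero, add_zero] at h
      exact (smul_eq_zero.mp h).resolve_right h4
    have c1 : c 1 = 0 := by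
      have h := congrArg (fun x => nb ρ b x) hc'
      simp only [map_add, map_smul, h3, c0, map_zero, zero_smul, smul_zero, add_zero, zero_add] at h
      exact (smul_eq_zero.mp h).resolve_right h4
    have c2 : c 2 = 0 := by
      rw [c0, c1, zero_smul, zero_smul, zero_add, zero_add] at hc'
      exact (smul_eq_zero.mp hc').resolve_right h4
    intro i
    fin_cases i <;> assumption
  simpa using hli.fintype_card_le_finrank

end

theorem triv_commutator {b : S} {W : Submodule (ZMod 3) E} {G : Subgroup S}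
    (hb : b ∈ Triv ρ W) (hG : ∀ g ∈ G, ∀ w ∈ W, ρ g w ∈ W) : ⁅G, zpowers b⁆ ≤ Triv ρ W := by
  refine commutator_le.mpr fun g hg x hx => ?_
  have hx' : x ∈ Triv ρ W := zpowers_le.mpr hb hx
  rw [commutatorElement_def]
  exact mul_mem (triv_conj hx' (hG g hg)) (inv_mem hx')

/-- If `G = [G, b]` then every `G`-invariant submodule containing `[E, b]` contains `[E, G]`. -/
theorem mov_le_of_commutator {b : S} {W : Submodule (ZMod 3) E} {G : Subgroup S}
    (h3 : ¬ 3 ∣ Nat.card G) (hGb : ⁅G, zpowers b⁆ = G) (hb : b ∈ Triv ρ W)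
    (hG : ∀ g ∈ G, ∀ w ∈ W, ρ g w ∈ W) : Mov ρ G ≤ W :=
  mov_le h3 (hGb.ge.trans (triv_commutator hb hG))

/-- If `b` fixes a `G`-invariant submodule pointwise, so does `[G, b]`. -/
theorem fix_of_commutator {b : S} {W : Submodule (ZMod 3) E} {G : Subgroup S}
    (hb : ∀ w ∈ W, ρ b w = w) (hG : ∀ g ∈ G, ∀ w ∈ W, ρ g w ∈ W) :
    ∀ g ∈ ⁅G, zpowers b⁆, ∀ w ∈ W, ρ g w = w := by
  let C : Subgroup S :=
    { carrier := {g | ∀ w ∈ W, ρ g w = w}
      one_mem' := fun w _ => rho_one ρ w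
      mul_mem' := fun {g h} hg hh w hw => by rw [rho_mul, hh w hw, hg w hw]
      inv_mem' := fun {g} hg w hw => by
        conv_lhs => rw [← hg w hw]
        exact rho_inv_apply ρ g w }
  intro g hg
  refine (commutator_le.mpr fun x hx y hy => ?_ : ⁅G, zpowers b⁆ ≤ C) hg
  have hy' : y ∈ C := (zpowers_le.mpr (show b ∈ C from hb)) hy
  rw [commutatorElement_def]
  refine C.mul_mem (fun w hw => ?_) (C.inv_mem hy')
  rw [rho_mul, rho_mul, hy' _ (hG _ (inv_mem hx) w hw), rho_apply_inv]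

theorem det_eq_one {G H : Subgroup S} {g : S} (hg : g ∈ ⁅G, H⁆) : LinearMap.det (ρ g) = 1 := by
  have h : (MonoidHom.toHomUnits (LinearMap.det.comp ρ)) g = 1 :=
    Abelianization.commutator_subset_ker _ (commutator_mono le_top le_top hg)
  exact congrArg Units.val h

/-! ### Four-groups moved by `b` -/

/-- Conjugation by `b`. -/
def cj (b : S) (x : S) : S := b * x * b⁻¹

theorem cj_mul (b x y : S) : cj b (x * y) = cj b x * cj b y := by simp only [cj]; group

theorem cj_one (b : S) : cj b 1 = 1 := by simp [cj]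

theorem cj_three {b : S} (hb : b ^ 3 = 1) (x : S) : cj b (cj b (cj b x)) = x := by
  calc cj b (cj b (cj b x)) = b ^ 3 * x * (b ^ 3)⁻¹ := by simp [cj, pow_succ, mul_assoc]
    _ = x := by rw [hb]; group

/-- An involution whose `b`-conjugates are the three involutions of a four-group. -/
structure KD (b q : S) : Prop where
  ne_one : q ≠ 1
  sq : q * q = 1
  comm : q * cj b q = cj b q * q
  prod : cj b (cj b q) = q * cj b q

namespace KD

variable {b q : S}

theorem sq' (h : KD b q) : cj b q * cj b q = 1 := by rw [← cj_mul, h.sq, cj_one]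

theorem shift (h : KD b q) (hb : b ^ 3 = 1) : KD b (cj b q) where
  ne_one h' := h.ne_one (by simpa [cj] using h')
  sq := h.sq'
  comm := by rw [← cj_mul, ← cj_mul, h.comm]
  prod := by rw [cj_three hb, h.prod, ← mul_assoc, ← h.comm, mul_assoc, h.sq', mul_one]

theorem sq'' (h : KD b q) : (q * cj b q) * (q * cj b q) = 1 := by
  rw [← h.prod, ← cj_mul, h.sq', cj_one]

theorem cj_prod (h : KD b q) (hb : b ^ 3 = 1) : cj b (q * cj b q) = q := by
  rw [← h.prod, cj_three hb]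

end KD

variable (ρ) in
/-- The common eigenspace for `q ↦ 1`, `q' ↦ -1`. -/
def line (b q : S) : Submodule (ZMod 3) E where
  carrier := {v | ρ q v = v ∧ ρ (cj b q) v = -v}
  zero_mem' := ⟨map_zero _, by simp⟩
  add_mem' {v w} hv hw := ⟨by rw [map_add, hv.1, hw.1], by rw [map_add, hv.2, hw.2, neg_add]⟩
  smul_mem' c v hv := ⟨by rw [map_smul, hv.1], by rw [map_smul, hv.2, smul_neg]⟩

variable (ρ) in
/-- The fixed space of the four-group. -/
def lineU (b q : S) : Submodule (ZMod 3) E where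
  carrier := {v | ρ q v = v ∧ ρ (cj b q) v = v}
  zero_mem' := ⟨map_zero _, map_zero _⟩
  add_mem' {v w} hv hw := ⟨by rw [map_add, hv.1, hw.1], by rw [map_add, hv.2, hw.2]⟩
  smul_mem' c v hv := ⟨by rw [map_smul, hv.1], by rw [map_smul, hv.2]⟩

variable (ρ) in
/-- The moved space of the four-group. -/
def lineV (b q : S) : Submodule (ZMod 3) E :=
  line ρ b q ⊔ line ρ b (cj b q) ⊔ line ρ b (cj b (cj b q))

theorem rho_b_line (b : S) {q : S} {v : E} (hv : v ∈ line ρ b q) :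
    ρ b v ∈ line ρ b (cj b q) := by
  refine ⟨?_, ?_⟩
  · rw [← rho_mul, show cj b q * b = b * q by simp [cj], rho_mul, hv.1]
  · rw [← rho_mul, show cj b (cj b q) * b = b * cj b q by simp [cj], rho_mul, hv.2, map_neg]

section Four

variable {b q : S} (hb : Cubic ρ b) (hq : KD b q)
include hb hq

theorem line_prod {v : E} (hv : v ∈ line ρ b q) : ρ (q * cj b q) v = -v := by
  rw [rho_mul, hv.2, map_neg, hv.1]

theorem line'_q {v : E} (hv : v ∈ line ρ b (cj b q)) : ρ q v = -v := by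
  have h1 : ρ (cj b q) v = v := hv.1
  have h2 : ρ (q * cj b q) v = -v := by rw [← hq.prod]; exact hv.2
  rwa [rho_mul, h1] at h2

theorem line''_q {v : E} (hv : v ∈ line ρ b (cj b (cj b q))) :
    ρ q v = -v ∧ ρ (cj b q) v = -v := by
  have h2 : ρ q v = -v := by
    have := hv.2; rwa [cj_three hb.pow_three] at this
  refine ⟨h2, ?_⟩
  have h1 : ρ (q * cj b q) v = v := by rw [← hq.prod]; exact hv.1
  rw [hq.comm, rho_mul, h2, map_neg] at h1
  exact neg_eq_iff_eq_neg.mp h1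

theorem decomp (v : E) : ∃ a1 ∈ line ρ b q, ∃ a2 ∈ line ρ b (cj b q),
    ∃ a3 ∈ line ρ b (cj b (cj b q)), ∃ u ∈ lineU ρ b q, v = a1 + a2 + a3 + u := by
  have s1 : ∀ x, ρ q (ρ q x) = x := fun x => by rw [← rho_mul, hq.sq, rho_one]
  have s2 : ∀ x, ρ (cj b q) (ρ (cj b q) x) = x := fun x => by rw [← rho_mul, hq.sq', rho_one]
  have s3 : ∀ x, ρ (cj b q) (ρ q x) = ρ q (ρ (cj b q) x) := fun x => by rw [← rho_mul, ← rho_mul, hq.comm]
  refine ⟨v + ρ q v - ρ (cj b q) v - ρ q (ρ (cj b q) v), ?_, v - ρ q v + ρ (cj b q) v - ρ q (ρ (cj b q) v), ?_,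
    v - ρ q v - ρ (cj b q) v + ρ q (ρ (cj b q) v), ?_, v + ρ q v + ρ (cj b q) v + ρ q (ρ (cj b q) v), ?_, ?_⟩
  · refine ⟨?_, ?_⟩ <;> simp only [map_add, map_sub, s1, s2, s3, neg_sub, neg_add_rev] <;> abel
  · refine ⟨?_, ?_⟩
    · simp only [map_add, map_sub, s1, s2, s3]; abel
    · rw [hq.prod, rho_mul]; simp only [map_add, map_sub, s1, s2, s3]; abel
  · refine ⟨?_, ?_⟩
    · rw [hq.prod, rho_mul]; simp only [map_add, map_sub, s1, s2, s3]; abel
    · rw [cj_three hb.pow_three]; simp only [map_add, map_sub, s1, s2, s3]; abel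
  · refine ⟨?_, ?_⟩ <;> simp only [map_add, map_sub, s1, s2, s3] <;> abel
  · rw [← sub_eq_zero, ← neg_eq_zero, ← three_eq_zero v]
    abel

theorem indep {a1 a2 a3 u : E} (h1 : a1 ∈ line ρ b q) (h2 : a2 ∈ line ρ b (cj b q))
    (h3 : a3 ∈ line ρ b (cj b (cj b q))) (hu : u ∈ lineU ρ b q) (h : a1 + a2 + a3 + u = 0) :
    a1 = 0 ∧ a2 = 0 ∧ a3 = 0 ∧ u = 0 := by
  have hp : a1 - a2 - a3 + u = 0 := by
    have := congrArg (ρ q) h
    simp only [map_add, map_zero, h1.1, line'_q hb hq h2, (line''_q hb hq h3).1, hu.1] at this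
    rw [← this]; abel
  have hp' : -a1 + a2 - a3 + u = 0 := by
    have := congrArg (ρ (cj b q)) h
    have e2 : ρ (cj b q) a2 = a2 := h2.1
    simp only [map_add, map_zero, h1.2, e2, (line''_q hb hq h3).2, hu.2] at this
    rw [← this]; abel
  have hp'' : -a1 - a2 + a3 + u = 0 := by
    have := congrArg (ρ q) hp'
    simp only [map_add, map_sub, map_neg, map_zero, h1.1, line'_q hb hq h2,
      (line''_q hb hq h3).1, hu.1] at this
    rw [← this]; abel
  have two : ∀ x : E, x + x = 0 → x = 0 := fun x hx => by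
    rwa [← neg_eq_add, neg_eq_zero] at hx
  have hu0 : u = 0 := by
    calc u = u + (u + u + u) := by rw [three_eq_zero, add_zero]
      _ = (a1 + a2 + a3 + u) + (a1 - a2 - a3 + u) + (-a1 + a2 - a3 + u) + (-a1 - a2 + a3 + u) := by
        abel
      _ = 0 := by rw [h, hp, hp', hp'']; simp
  subst hu0
  refine ⟨two _ ?_, two _ ?_, two _ ?_, rfl⟩
  · calc a1 + a1 = (a1 + a2 + a3 + 0) + (a1 - a2 - a3 + 0) := by abel
      _ = 0 := by rw [h, hp, add_zero]
  · calc a2 + a2 = (a1 + a2 + a3 + 0) + (-a1 + a2 - a3 + 0) := by abel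
      _ = 0 := by rw [h, hp', add_zero]
  · calc a3 + a3 = (a1 + a2 + a3 + 0) + (-a1 - a2 + a3 + 0) := by abel
      _ = 0 := by rw [h, hp'', add_zero]

theorem line_le_one : finrank (ZMod 3) (line ρ b q) ≤ 1 := by
  refine le_trans ?_ hb.rank_two
  refine LinearMap.finrank_le_finrank_of_injective
    (f := ((nb ρ b ∘ₗ nb ρ b) ∘ₗ (line ρ b q).subtype).codRestrict _ fun x => ⟨x, rfl⟩) ?_
  rw [← LinearMap.ker_eq_bot, eq_bot_iff]
  rintro ⟨x, hx⟩ hx0
  have h : x + ρ b x + ρ b (ρ b x) = 0 := by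
    rw [← nb_nb_apply]; exact congrArg Subtype.val hx0
  refine Subtype.ext (indep hb hq hx (rho_b_line b hx) (rho_b_line b (rho_b_line b hx))
    (zero_mem _) ?_).1
  rw [add_zero]; exact h

theorem line_eq_smul {x : E} (hx : x ∈ line ρ b q) (hx0 : x ≠ 0) {v : E} (hv : v ∈ line ρ b q) :
    ∃ c : ZMod 3, v = c • x := by
  have h1 : Submodule.span (ZMod 3) {x} = line ρ b q :=
    Submodule.eq_of_le_of_finrank_le ((Submodule.span_singleton_le_iff_mem _ _).mpr hx)
      ((line_le_one hb hq).trans (finrank_span_singleton hx0).ge)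
  obtain ⟨c, hc⟩ := Submodule.mem_span_singleton.mp (h1.ge hv)
  exact ⟨c, hc.symm⟩

theorem exists_line_ne_zero : ∃ x ∈ line ρ b q, x ≠ 0 := by
  by_contra hh
  push Not at hh
  have h0 : ∀ x, ρ b x = 0 → x = 0 := fun x hx => by
    rw [← rho_b_three hb x, hx, map_zero, map_zero]
  refine hq.ne_one (eq_of_rho ρ hb.faith fun v => ?_)
  obtain ⟨a1, h1, a2, h2, a3, h3, u, hu, rfl⟩ := decomp hb hq v
  have e3 : a3 = 0 := h0 _ (hh _ (by simpa only [cj_three hb.pow_three] using rho_b_line b h3))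
  have e2 : a2 = 0 := h0 _ (h0 _ (hh _ (by
    simpa only [cj_three hb.pow_three] using rho_b_line b (rho_b_line b h2))))
  rw [hh _ h1, e2, e3, zero_add, zero_add, zero_add, rho_one, hu.1]

theorem lineU_apply {u : E} (hu : u ∈ lineU ρ b q) : ρ b u ∈ lineU ρ b q := by
  refine ⟨?_, ?_⟩
  · rw [← rho_mul, show q * b = b * (q * cj b q) by
      have h := cj_three hb.pow_three q
      rw [hq.prod] at h
      conv_lhs => rw [← h]
      simp [cj], rho_mul, rho_mul, hu.2, hu.1]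
  · rw [← rho_mul, show cj b q * b = b * q by simp [cj], rho_mul, hu.1]

theorem range_nb_le : LinearMap.range (nb ρ b) ≤ lineV ρ b q := by
  obtain ⟨x, hx, hx0⟩ := exists_line_ne_zero hb hq
  set y2 := ρ b x - x
  set y3 := ρ b (ρ b x) - ρ b x
  have m1 := rho_b_line b hx
  have m2 := rho_b_line b m1
  have hli : LinearIndependent (ZMod 3) ![y2, y3] := by
    refine LinearIndependent.pair_iff.mpr fun s t hst => ?_
    have h : (-s) • x + (s - t) • ρ b x + t • ρ b (ρ b x) + 0 = 0 := by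
      rw [add_zero, ← hst]; module
    obtain ⟨h1, -, h3, -⟩ := indep hb hq (Submodule.smul_mem _ (-s) hx)
      (Submodule.smul_mem _ (s - t) m1) (Submodule.smul_mem _ t m2) (zero_mem _) h
    refine ⟨neg_eq_zero.mp ((smul_eq_zero.mp h1).resolve_right hx0),
      (smul_eq_zero.mp h3).resolve_right fun h' => hx0 ?_⟩
    rw [← rho_b_three hb x, h', map_zero]
  have hspan : Submodule.span (ZMod 3) (Set.range ![y2, y3]) = LinearMap.range (nb ρ b) := by
    refine Submodule.eq_of_le_of_finrank_le (Submodule.span_le.mpr ?_) ?_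
    · rintro _ ⟨i, rfl⟩
      fin_cases i
      · exact ⟨x, rfl⟩
      · exact ⟨ρ b x, rfl⟩
    · rw [finrank_span_eq_card hli, Fintype.card_fin]
      exact hb.rank_one
  rw [← hspan, Submodule.span_le]
  rintro _ ⟨i, rfl⟩
  fin_cases i
  · exact sub_mem (Submodule.mem_sup_left (Submodule.mem_sup_right m1))
      (Submodule.mem_sup_left (Submodule.mem_sup_left hx))
  · exact sub_mem (Submodule.mem_sup_right m2) (Submodule.mem_sup_left (Submodule.mem_sup_right m1))

theorem lineU_fixed {u : E} (hu : u ∈ lineU ρ b q) : ρ b u = u := by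
  have h : ρ b u - u ∈ lineV ρ b q := range_nb_le hb hq ⟨u, rfl⟩
  obtain ⟨w, hw, a3, h3, hsum⟩ := Submodule.mem_sup.mp h
  obtain ⟨a1, h1, a2, h2, rfl⟩ := Submodule.mem_sup.mp hw
  have := indep hb hq h1 h2 h3 (Submodule.neg_mem _ (sub_mem (lineU_apply hb hq hu) hu)) (by
    rw [hsum, add_neg_cancel])
  exact sub_eq_zero.mp (neg_eq_zero.mp this.2.2.2)

theorem finrank_lineV : finrank (ZMod 3) (lineV ρ b q) ≤ 3 := by
  have h1 := line_le_one hb hq
  have h2 := line_le_one hb (hq.shift hb.pow_three)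
  have h3 := line_le_one hb ((hq.shift hb.pow_three).shift hb.pow_three)
  have e1 := Submodule.finrank_add_le_finrank_add_finrank
    (line ρ b q ⊔ line ρ b (cj b q)) (line ρ b (cj b (cj b q)))
  have e2 := Submodule.finrank_add_le_finrank_add_finrank (line ρ b q) (line ρ b (cj b q))
  rw [lineV]
  omega

theorem lineV_le_mov {G : Subgroup S} (hqG : q ∈ G) (hq'G : cj b q ∈ G) :
    lineV ρ b q ≤ Mov ρ G := by
  have key : ∀ g ∈ G, ∀ v, ρ g v = -v → v ∈ Mov ρ G := fun g hg v hv => by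
    have := le_triv_mov (ρ := ρ) G hg v
    rwa [hv, neg_eq_add, add_sub_cancel_right] at this
  refine sup_le (sup_le ?_ ?_) ?_
  · exact fun v hv => key _ hq'G v hv.2
  · exact fun v hv => key _ hqG v (line'_q hb hq hv)
  · exact fun v hv => key _ hqG v (line''_q hb hq hv).1

theorem mem_triv_lineV : q ∈ Triv ρ (lineV ρ b q) := by
  intro v
  obtain ⟨a1, h1, a2, h2, a3, h3, u, hu, rfl⟩ := decomp hb hq v
  simp only [map_add, h1.1, line'_q hb hq h2, (line''_q hb hq h3).1, hu.1]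
  rw [show a1 + -a2 + -a3 + u - (a1 + a2 + a3 + u) = -(a2 + a2) + -(a3 + a3) by abel,
    ← neg_eq_add, ← neg_eq_add, neg_neg, neg_neg]
  exact add_mem (Submodule.mem_sup_left (Submodule.mem_sup_right h2)) (Submodule.mem_sup_right h3)

/-- Commuting elements are determined up to the four-group by their commutation with `b`. -/
theorem cent {c : S} (hc : c * q = q * c) (hc' : c * cj b q = cj b q * c) :
    ∃ k, (k = 1 ∨ k = q ∨ k = cj b q ∨ k = q * cj b q) ∧ c * b * c⁻¹ * b⁻¹ = k := by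
  obtain ⟨x, hx, hx0⟩ := exists_line_ne_zero hb hq
  have m1 := rho_b_line b hx
  have m2 := rho_b_line b m1
  have e : ρ b (ρ b x) ≠ 0 := fun h' => hx0 (by rw [← rho_b_three hb x, h', map_zero])
  have e' : ρ b x ≠ 0 := fun h' => e (by rw [h', map_zero])
  have hq1 := hq.shift hb.pow_three
  have hq2 := hq1.shift hb.pow_three
  have hc'' : c * cj b (cj b q) = cj b (cj b q) * c := by
    rw [hq.prod]; exact ((show Commute c q from hc).mul_right hc').eq
  have hpres : ∀ r : S, c * r = r * c → c * cj b r = cj b r * c → ∀ v ∈ line ρ b r,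
      ρ c v ∈ line ρ b r := fun r h h' v hv =>
    ⟨by rw [← rho_mul, ← h, rho_mul, hv.1], by rw [← rho_mul, ← h', rho_mul, hv.2, map_neg]⟩
  have hs : ∀ (r : S) (_ : KD b r) (v : E), v ∈ line ρ b r → v ≠ 0 → c * r = r * c →
      c * cj b r = cj b r * c →
      ∃ s : ZMod 3, (s = 1 ∨ s = -1) ∧ ρ c v = s • v ∧ ρ c⁻¹ v = s • v := by
    intro r hr v hv hv0 h h'
    obtain ⟨s, hsv⟩ := line_eq_smul hb hr hv hv0 (hpres r h h' v hv)
    have hs0 : s = 1 ∨ s = -1 := by
      have hne : s ≠ 0 := fun h0 => hv0 (by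
        rw [← rho_inv_apply ρ c v, hsv, h0, zero_smul, map_zero])
      exact (show ∀ t : ZMod 3, t ≠ 0 → t = 1 ∨ t = -1 by decide) s hne
    refine ⟨s, hs0, hsv, ?_⟩
    have : ρ c (s • v) = v := by
      rw [map_smul, hsv, smul_smul]; rcases hs0 with rfl | rfl <;> norm_num
    conv_lhs => rw [← this]
    exact rho_inv_apply ρ c _
  obtain ⟨s1, hs1, f1, g1⟩ := hs q hq x hx hx0 hc hc'
  obtain ⟨s2, hs2, f2, g2⟩ := hs _ hq1 _ m1 e' hc' hc''
  obtain ⟨s3, hs3, f3, g3⟩ := hs _ hq2 _ m2 e hc'' (by rw [cj_three hb.pow_three]; exact hc)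
  have binv : ∀ v, ρ b⁻¹ v = ρ b (ρ b v) := fun v => by
    conv_lhs => rw [← rho_b_three hb v]
    exact rho_inv_apply ρ b _
  set d := c * b * c⁻¹ * b⁻¹
  have hd1 : ρ d x = (s3 * s1) • x := by
    simp only [d, rho_mul, binv, g3, map_smul, rho_b_three hb, f1, smul_smul]
  have hd2 : ρ d (ρ b x) = (s1 * s2) • ρ b x := by
    simp only [d, rho_mul, binv, rho_b_three hb, g1, map_smul, f2, smul_smul]
  have hd3 : ρ d (ρ b (ρ b x)) = (s2 * s3) • ρ b (ρ b x) := by
    simp only [d, rho_mul, binv, rho_b_three hb, g2, map_smul, f3, smul_smul]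
  have hdU : ∀ u ∈ lineU ρ b q, ρ d u = u := fun u hu => by
    have h1 : ∀ w ∈ lineU ρ b q, ρ c⁻¹ w ∈ lineU ρ b q := fun w hw => by
      have hci : ∀ r : S, c * r = r * c → r * c⁻¹ = c⁻¹ * r := fun r h => by
        rw [eq_inv_mul_iff_mul_eq, ← mul_assoc, h, mul_inv_cancel_right]
      exact ⟨by rw [← rho_mul, hci q hc, rho_mul, hw.1],
        by rw [← rho_mul, hci _ hc', rho_mul, hw.2]⟩
    simp only [d, rho_mul, binv, lineU_fixed hb hq hu, lineU_fixed hb hq (h1 u hu), rho_apply_inv]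
  have key : ∀ k : S, ρ k x = (s3 * s1) • x → ρ k (ρ b x) = (s1 * s2) • ρ b x →
      ρ k (ρ b (ρ b x)) = (s2 * s3) • ρ b (ρ b x) → (∀ u ∈ lineU ρ b q, ρ k u = u) → d = k := by
    intro k k1 k2 k3 kU
    refine eq_of_rho ρ hb.faith fun v => ?_
    obtain ⟨a1, h1, a2, h2, a3, h3, u, hu, rfl⟩ := decomp hb hq v
    obtain ⟨t1, rfl⟩ := line_eq_smul hb hq hx hx0 h1
    obtain ⟨t2, rfl⟩ := line_eq_smul hb hq1 m1 e' h2
    obtain ⟨t3, rfl⟩ := line_eq_smul hb hq2 m2 e h3
    simp only [map_add, map_smul, hd1, hd2, hd3, hdU u hu, k1, k2, k3, kU u hu]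
  have a0 := hx.1
  have a0' := hx.2
  have a1 := line'_q hb hq m1
  have a1' : ρ (cj b q) (ρ b x) = ρ b x := m1.1
  have a2 := (line''_q hb hq m2).1
  have a2' := (line''_q hb hq m2).2
  have aU : ∀ u ∈ lineU ρ b q, ρ (cj b q) u = u := fun u hu => hu.2
  generalize cj b q = p at a0' a1' a2' aU ⊢
  rcases hs1 with rfl | rfl <;> rcases hs2 with rfl | rfl <;> rcases hs3 with rfl | rfl
  all_goals first
    | (refine ⟨1, Or.inl rfl, key 1 ?_ ?_ ?_ ?_⟩ <;> simp [rho_one]; done)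
    | (refine ⟨q, Or.inr (Or.inl rfl), key q ?_ ?_ ?_ (fun u hu => hu.1)⟩ <;>
        simp [a0, a1, a2]; done)
    | (refine ⟨p, Or.inr (Or.inr (Or.inl rfl)), key _ ?_ ?_ ?_ aU⟩ <;>
        simp [a0', a1', a2']; done)
    | (refine ⟨q * p, Or.inr (Or.inr (Or.inr rfl)), key _ ?_ ?_ ?_
        (fun u hu => by rw [rho_mul, aU u hu, hu.1])⟩ <;>
        simp [rho_mul, a0, a0', a1, a1', a2, a2']; done)

end Four

end Cfsg.Agent.CubicThree
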