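import Cfsg.Agent.CubicThree.Basic
import Cfsg.Agent.Lib.Coprime.Action
import Cfsg.Agent.Lib.PGroup.Basic

/-!
A `2`-group `D = [D, b]` containing a four-group moved by `b` moves a space of dimension at most
four.
-/

set_option autoImplicit false
set_option linter.unusedSectionVars false

namespace Cfsg.Agent.CubicThree

open Subgroup Module
open scoped commutatorElement

attribute [local instance] Fintype.ofFinite

variable {S : Type*} [Group S] [Finite S] {E : Type*} [AddCommGroup E] [Module (ZMod 3) E]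
  [Finite E] {ρ : Representation (ZMod 3) S E}

/-- Invariance under conjugation by `b`. -/
def BInv (b : S) (G : Subgroup S) : Prop := ∀ g ∈ G, cj b g ∈ G

theorem BInv.back {b : S} (hb : b ^ 3 = 1) {G : Subgroup S} (h : BInv b G) {g : S} (hg : g ∈ G) :
    b⁻¹ * g * b ∈ G := by
  have h2 := h _ (h g hg)
  have e : cj b (cj b g) = b⁻¹ * g * b := by
    calc cj b (cj b g) = b⁻¹ * (b ^ 3) * g * (b ^ 3)⁻¹ * b := by simp [cj, pow_succ, mul_assoc]
      _ = _ := by rw [hb]; group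
  rwa [e] at h2

theorem BInv.le_normalizer {b : S} (hb : b ^ 3 = 1) {G : Subgroup S} (h : BInv b G) :
    zpowers b ≤ normalizer (G : Set S) :=
  zpowers_le.mpr (Coprime.mem_normalizer_of_le_iff h fun _ hg => h.back hb hg)

theorem BInv.of_normalizer {b : S} {G : Subgroup S} (h : zpowers b ≤ normalizer (G : Set S)) :
    BInv b G := fun g hg => (mem_normalizer_iff.mp (h (mem_zpowers b)) g).mp hg

theorem card_zpowers_dvd {b : S} (hb : b ^ 3 = 1) : Nat.card (zpowers b) ∣ 3 := by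
  rw [Nat.card_zpowers]
  exact orderOf_dvd_of_pow_eq_one hb

theorem coprime_zpowers {b : S} (hb : b ^ 3 = 1) {G : Subgroup S} (h3 : ¬ 3 ∣ Nat.card G) :
    (Nat.card (zpowers b)).Coprime (Nat.card G) :=
  Nat.Coprime.coprime_dvd_left (card_zpowers_dvd hb)
    ((Nat.Prime.coprime_iff_not_dvd Nat.prime_three).mpr h3)

theorem zpowers_solvable (b : S) : Group.IsSolvable (zpowers b) :=
  Group.isSolvable_of_comm fun x y => mul_comm' x y

/-- `[[G, b], b] = [G, b]`. -/
theorem commutator_idem {b : S} (hb : b ^ 3 = 1) {G : Subgroup S} (hG : BInv b G)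
    (h3 : ¬ 3 ∣ Nat.card G) : ⁅⁅G, zpowers b⁆, zpowers b⁆ = ⁅G, zpowers b⁆ :=
  Coprime.commutator_commutator_eq (zpowers b) G (hG.le_normalizer hb) (coprime_zpowers hb h3)
    (Or.inl (zpowers_solvable b))

theorem binv_commutator {b : S} {G : Subgroup S} : BInv b ⁅G, zpowers b⁆ :=
  BInv.of_normalizer (Coprime.le_normalizer_commutator_right _ _)

theorem commutator_le_self {b : S} (hb : b ^ 3 = 1) {G : Subgroup S} (hG : BInv b G) :
    ⁅G, zpowers b⁆ ≤ G :=
  Coprime.commutator_le_of_le_normalizer (hG.le_normalizer hb)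

/-- The four-group of `q`. -/
def four (b q : S) : Subgroup S := closure {q, cj b q}

theorem mem_four_left (b q : S) : q ∈ four b q := subset_closure (Set.mem_insert _ _)

theorem mem_four_right (b q : S) : cj b q ∈ four b q :=
  subset_closure (Set.mem_insert_of_mem _ rfl)

theorem four_le {b q : S} {G : Subgroup S} (hG : BInv b G) (h : q ∈ G) : four b q ≤ G := by
  rw [four, closure_le]
  rintro x (rfl | rfl)
  exacts [h, hG _ h]

theorem binv_four {b q : S} (hq : KD b q) : BInv b (four b q) := by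
  intro g hg
  induction hg using closure_induction with
  | mem x hx =>
    rcases hx with rfl | rfl
    · exact mem_four_right b x
    · rw [hq.prod]; exact mul_mem (mem_four_left b q) (mem_four_right b q)
  | one => rw [cj_one]; exact one_mem _
  | mul x y _ _ hx hy => rw [cj_mul]; exact mul_mem hx hy
  | inv x _ hx => rw [show cj b x⁻¹ = (cj b x)⁻¹ by simp only [cj]; group]; exact inv_mem hx

theorem mem_commutator_of_KD {b q : S} (hq : KD b q) {G : Subgroup S} (h : cj b q ∈ G) :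
    q ∈ ⁅G, zpowers b⁆ := by
  have h1 := commutator_mem_commutator h (mem_zpowers b)
  have e : ⁅cj b q, b⁆ = q := by
    have hi : (cj b q)⁻¹ = cj b q := inv_eq_of_mul_eq_one_right hq.sq'
    calc ⁅cj b q, b⁆ = cj b q * cj b (cj b q)⁻¹ := by
          simp only [commutatorElement_def, cj, mul_assoc]
      _ = cj b q * (q * cj b q) := by rw [hi, hq.prod]
      _ = q := by rw [hq.comm, ← mul_assoc, hq.sq', one_mul]
  rwa [e] at h1

theorem four_le_triv {b q : S} (hb : Cubic ρ b) (hq : KD b q) :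
    four b q ≤ Triv ρ (lineV ρ b q) := by
  rw [four, closure_le]
  rintro x (rfl | rfl)
  · exact mem_triv_lineV hb hq
  · have h := mem_triv_lineV hb (hq.shift hb.pow_three)
    have e : lineV ρ b (cj b q) = lineV ρ b q := by
      simp only [lineV, cj_three hb.pow_three]
      ac_rfl
    rwa [e] at h

theorem lineU_of_fix {b q : S} {G : Subgroup S} (hq : q ∈ G) (hq' : cj b q ∈ G) {v : E}
    (hv : v ∈ Fix ρ G) : v ∈ lineU ρ b q :=
  ⟨hv q hq, hv _ hq'⟩

/-- The dimension bound. -/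
theorem dim_le_four {b : S} (hb : Cubic ρ b) {q : S} (hq : KD b q) (D : Subgroup S)
    (hD : IsPGroup 2 D) (hinv : BInv b D) (hgen : ⁅D, zpowers b⁆ = D) (hqD : q ∈ D) :
    finrank (ZMod 3) (Mov ρ D) ≤ 4 := by
  induction hcard : Nat.card D using Nat.strong_induction_on generalizing D with
  | _ n ih =>
  subst hcard
  haveI := Fact.mk Nat.prime_two
  have hb3 := hb.pow_three
  have h3D := not_three_dvd_two_group hD
  let φ : MulAut D :=
    { toFun := fun x => ⟨cj b x, hinv x x.2⟩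
      invFun := fun x => ⟨b⁻¹ * x * b, hinv.back hb3 x.2⟩
      left_inv := fun x => Subtype.ext (show b⁻¹ * cj b (x : S) * b = x by simp [cj, mul_assoc])
      right_inv := fun x => Subtype.ext (show cj b (b⁻¹ * (x : S) * b) = x by simp [cj, mul_assoc])
      map_mul' := fun x y => Subtype.ext (cj_mul b x y) }
  have hφ : ∀ x : D, ((φ x : D) : S) = cj b x := fun _ => rfl
  set P0 : Subgroup D := (four b q).subgroupOf D ⊔ frattini D
  by_cases hP0 : P0 = ⊤
  · have h := frattini_nongenerating hP0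
    have hle : D ≤ Triv ρ (lineV ρ b q) := (subgroupOf_eq_top.mp h).trans (four_le_triv hb hq)
    exact (Submodule.finrank_mono (mov_le h3D hle)).trans
      ((finrank_lineV hb hq).trans (by norm_num))
  -- a maximal invariant subgroup over `P0`
  have hP0φ : ∀ x ∈ P0, φ x ∈ P0 := by
    intro x hx
    have hle : P0 ≤ P0.comap φ.toMonoidHom := by
      refine sup_le (fun y hy => ?_) (fun y hy => ?_)
      · exact mem_sup_left (show cj b (y : S) ∈ four b q from binv_four hq _ hy)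
      · refine mem_sup_right ?_
        have h := (characteristic_iff_map_eq.mp (inferInstance : (frattini D).Characteristic)) φ
        rw [← h]
        exact ⟨y, hy, rfl⟩
    exact hle hx
  obtain ⟨J, hJ⟩ := (Set.toFinite {J : Subgroup D | P0 ≤ J ∧ J ≠ ⊤ ∧ ∀ x ∈ J, φ x ∈ J}).exists_maximal
    ⟨P0, le_rfl, hP0, hP0φ⟩
  obtain ⟨hPJ, hJne, hJφ⟩ := hJ.prop
  have hΦJ : frattini D ≤ J := le_sup_right.trans hPJ
  haveI hJn : J.Normal :=
    Subgroup.Normal.of_commutator_le (G := D) ((PGroup.commutator_le_frattini hD).trans hΦJ)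
  let π : D →* D ⧸ J := QuotientGroup.mk' J
  have hπc : ∀ x y : D ⧸ J, x * y = y * x := fun x y => by
    obtain ⟨x, rfl⟩ := QuotientGroup.mk'_surjective J x
    obtain ⟨y, rfl⟩ := QuotientGroup.mk'_surjective J y
    rw [← commutatorElement_eq_one_iff_mul_comm, ← map_commutatorElement]
    exact (QuotientGroup.eq_one_iff _).mpr (hΦJ (PGroup.comm_mem_frattini hD x y))
  have hπ2 : ∀ x : D ⧸ J, x * x = 1 := fun x => by
    obtain ⟨x, rfl⟩ := QuotientGroup.mk'_surjective J x
    rw [← map_mul, ← pow_two]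
    exact (QuotientGroup.eq_one_iff _).mpr (hΦJ (PGroup.pow_mem_frattini hD x))
  have hπ1 : ∀ x, π x = 1 ↔ x ∈ J := fun x => QuotientGroup.eq_one_iff x
  have hφ3 : ∀ x, φ (φ (φ x)) = x := fun x => Subtype.ext (cj_three hb3 (x : S))
  -- the norm map is trivial
  let ψ : D →* D ⧸ J :=
    { toFun := fun x => π x * π (φ x) * π (φ (φ x))
      map_one' := by simp
      map_mul' := fun x y => by
        have m : ∀ a₁ a₂ a₃ a₄ : D ⧸ J, a₁ * a₂ * (a₃ * a₄) = a₁ * a₃ * (a₂ * a₄) :=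
          fun a₁ a₂ a₃ a₄ => by
            rw [mul_assoc, ← mul_assoc a₂, hπc a₂ a₃, mul_assoc, ← mul_assoc]
        simp only [map_mul]
        rw [m (π x) (π y), m (π x * π (φ x))] }
  have hψφ : ∀ x, ψ (φ x) = ψ x := fun x => by
    show π (φ x) * π (φ (φ x)) * π (φ (φ (φ x))) = π x * π (φ x) * π (φ (φ x))
    rw [hφ3, mul_assoc (π x), hπc]
  have hψ : ∀ x, ψ x = 1 := by
    have hle : ⁅D, zpowers b⁆ ≤ ψ.ker.map D.subtype := by
      refine commutator_le.mpr fun h hh β hβ => ?_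
      obtain ⟨k, rfl⟩ := (mem_powers_iff_mem_zpowers).mpr hβ
      have hk : ∀ j : ℕ, ∀ y : D, ∃ y' : D, (y' : S) = b ^ j * y * (b ^ j)⁻¹ ∧ ψ y' = ψ y := by
        intro j
        induction j with
        | zero => exact fun y => ⟨y, by simp, rfl⟩
        | succ j ihj =>
          intro y
          obtain ⟨y', hy', hψy⟩ := ihj y
          refine ⟨φ y', ?_, by rw [hψφ, hψy]⟩
          rw [hφ, hy', pow_succ']
          simp [cj, mul_assoc]
      obtain ⟨y', hy', hψy⟩ := hk k ⟨h, hh⟩⁻¹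
      refine ⟨⟨h, hh⟩ * y', ?_, ?_⟩
      · show ψ _ = 1
        rw [map_mul, hψy, map_inv, mul_inv_cancel]
      · simp [commutatorElement_def, hy', mul_assoc]
    intro x
    obtain ⟨y, hy, hyx⟩ := hle (hgen.ge x.2)
    rw [← show y = x from Subtype.ext hyx]
    exact hy
  obtain ⟨d, hd⟩ : ∃ d, d ∉ J := by
    by_contra h; push Not at h; exact hJne (eq_top_iff.mpr fun x _ => h x)
  set d' := φ d
  have hd'' : π (φ d') = π (d * d') := by
    have h : π d * π d' * π (φ d') = 1 := hψ d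
    rw [map_mul]
    calc π (φ d') = (π d * π d') * (π d * π d') * π (φ d') := by rw [hπ2, one_mul]
      _ = π d * π d' := by rw [mul_assoc, h, mul_one]
  have hgenD : ∀ H : Subgroup D, J ≤ H → d ∈ H → d' ∈ H → H = ⊤ := by
    intro H hJH hdH hd'H
    set J1 := J ⊔ closure {d, d'}
    have hJ1φ : ∀ x ∈ J1, φ x ∈ J1 := by
      have hle : J1 ≤ J1.comap φ.toMonoidHom := by
        refine sup_le (fun y hy => mem_sup_left (hJφ y hy)) ((closure_le _).mpr ?_)
        rintro y (rfl | rfl)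
        · exact mem_sup_right (subset_closure (Set.mem_insert_of_mem _ rfl))
        · show φ d' ∈ J1
          have e : (d * d')⁻¹ * φ d' ∈ J := by rw [← hπ1, map_mul, map_inv, hd'', inv_mul_cancel]
          have := mul_mem (mem_sup_right (S := J) (mul_mem
            (subset_closure (Set.mem_insert d {d'}) : d ∈ closure {d, d'})
            (subset_closure (Set.mem_insert_of_mem _ rfl)))) (mem_sup_left e : _ ∈ J1)
          rwa [mul_inv_cancel_left] at this
      exact fun x hx => hle hx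
    have h1 : J1 = ⊤ := by
      by_contra hne
      exact hd (hJ.le_of_ge ⟨hPJ.trans le_sup_left, hne, hJ1φ⟩ le_sup_left
        (mem_sup_right (subset_closure (Set.mem_insert _ _))))
    refine top_le_iff.mp (h1.ge.trans (sup_le hJH ((closure_le _).mpr ?_)))
    rintro y (rfl | rfl)
    exacts [hdH, hd'H]
  -- the commutator subgroup of `J`
  set JS := J.map D.subtype
  have hJSD : JS ≤ D := map_subtype_le J
  have hJSinv : BInv b JS := by rintro _ ⟨x, hx, rfl⟩; exact ⟨φ x, hJφ x hx, rfl⟩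
  set N := ⁅JS, zpowers b⁆
  have hq'D : cj b q ∈ D := hinv q hqD
  have hqN : q ∈ N := mem_commutator_of_KD hq
    ⟨⟨cj b q, hq'D⟩, hPJ (mem_sup_left (mem_four_right b q)), rfl⟩
  have hNJ : N ≤ JS := commutator_le_self hb3 hJSinv
  have hq'N : cj b q ∈ N := binv_commutator q hqN
  have hNlt : Nat.card N < Nat.card D := by
    refine lt_of_le_of_lt (card_le_of_le hNJ) (lt_of_le_of_ne (card_le_of_le hJSD) fun h => hJne ?_)
    have h' := Subgroup.eq_of_le_of_card_ge hJSD h.ge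
    refine eq_top_iff.mpr fun x _ => ?_
    obtain ⟨y, hy, hyx⟩ := h'.ge x.2
    rwa [← show y = x from Subtype.ext hyx]
  have hJS2 : IsPGroup 2 JS := hD.to_le hJSD
  have hN2 : IsPGroup 2 N := hJS2.to_le hNJ
  have h3N := not_three_dvd_two_group hN2
  have hIH := ih _ hNlt N hN2 binv_commutator
    (commutator_idem hb3 hJSinv (not_three_dvd_two_group hJS2)) hqN rfl
  by_cases hMN : Mov ρ D ≤ Mov ρ N
  · exact (Submodule.finrank_mono hMN).trans hIH
  have hND : N ≤ D := hNJ.trans hJSD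
  have hJN : ∀ j ∈ JS, ∀ g ∈ N, j * g * j⁻¹ ∈ N := fun j hj g hg =>
    (mem_normalizer_iff.mp (Coprime.le_normalizer_commutator_left (zpowers b) JS hj) g).mp hg
  have hMD : ∀ g ∈ D, ∀ v ∈ Mov ρ D, ρ g v ∈ Mov ρ D := fun g hg v hv =>
    mov_apply_mem h3D (fun x hx => mul_mem (mul_mem hg hx) (inv_mem hg)) hv
  have hFix : ∀ j ∈ JS, ∀ v ∈ Fix ρ N, ρ j v ∈ Fix ρ N := fun j hj v hv g hg => by
    have h := hv _ (hJN j⁻¹ (inv_mem hj) g hg)
    rw [inv_inv] at h
    calc ρ g (ρ j v) = ρ j (ρ (j⁻¹ * g * j) v) := by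
          rw [rho_mul, rho_mul, rho_apply_inv]
      _ = ρ j v := by rw [h]
  have hbFix : ∀ v ∈ Fix ρ N, ρ b v = v := fun v hv =>
    lineU_fixed hb hq (lineU_of_fix hqN hq'N hv)
  obtain ⟨v, hv, hvN⟩ := SetLike.not_le_iff_exists.mp hMN
  have hY : Fix ρ N ⊓ Mov ρ D ≠ ⊥ := by
    refine (Submodule.ne_bot_iff _).mpr ⟨pr ρ N v, ⟨pr_mem_fix N v,
      pr_mem (fun g hg => hMD g (hND hg)) hv⟩, fun h => hvN ?_⟩
    have := sub_pr_mem (ρ := ρ) h3N v
    rwa [h, sub_zero] at this
  obtain ⟨Y0, hY0⟩ := (Set.toFinite {W : Submodule (ZMod 3) E | W ≤ Fix ρ N ⊓ Mov ρ D ∧ W ≠ ⊥ ∧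
      ∀ j ∈ JS, ∀ w ∈ W, ρ j w ∈ W}).exists_minimal
    ⟨Fix ρ N ⊓ Mov ρ D, le_rfl, hY, fun j hj w hw => ⟨hFix j hj w hw.1, hMD j (hJSD hj) w hw.2⟩⟩
  obtain ⟨hY0le, hY0ne, hY0J⟩ := hY0.prop
  let Tr : D → Submodule (ZMod 3) E := fun g => Y0.map (ρ (g : S))
  have hTrJ : ∀ g g' : D, π g = π g' → Tr g = Tr g' := by
    intro g g' h
    have hj : g⁻¹ * g' ∈ J := by rw [← hπ1, map_mul, map_inv, h, inv_mul_cancel]
    have key : ∀ (a c : D), a⁻¹ * c ∈ J → Tr c ≤ Tr a := by
      rintro a c hac _ ⟨y, hy, rfl⟩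
      refine ⟨ρ (((a⁻¹ * c : D)) : S) y, hY0J _ ⟨_, hac, rfl⟩ y hy, ?_⟩
      rw [← rho_mul]
      simp [mul_assoc]
    refine le_antisymm (key g' g ?_) (key g g' hj)
    simpa using inv_mem hj
  have hTrmap : ∀ g h : D, (Tr g).map (ρ (h : S)) = Tr (h * g) := fun g h => by
    simp only [Tr]
    rw [← Submodule.map_comp]
    congr 1
    ext v
    simp [rho_mul]
  have hTrb : ∀ g : D, (Tr g).map (ρ b) = Tr (φ g) := fun g => by
    apply le_antisymm
    · rintro _ ⟨_, ⟨y, hy, rfl⟩, rfl⟩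
      refine ⟨y, hy, ?_⟩
      conv_lhs => rw [← hbFix y (hY0le hy).1]
      rw [← rho_mul, ← rho_mul, hφ, cj, inv_mul_cancel_right]
    · rintro _ ⟨y, hy, rfl⟩
      refine ⟨ρ (g : S) y, ⟨y, hy, rfl⟩, ?_⟩
      conv_rhs => rw [← hbFix y (hY0le hy).1]
      rw [← rho_mul, ← rho_mul, hφ, cj, inv_mul_cancel_right]
  have hdich : ∀ g : D, Tr g ≤ Fix ρ N ∨ Tr g ≤ Mov ρ N := by
    intro g
    by_cases h : Y0 ⊓ (Fix ρ N).comap (ρ (g : S)) = ⊥
    · refine Or.inr ?_
      rintro _ ⟨y, hy, rfl⟩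
      have hTJ : ∀ j ∈ N, ∀ w ∈ Tr g, ρ j w ∈ Tr g := by
        rintro j hj w hw
        obtain ⟨x, hx, rfl⟩ := hNJ hj
        have e : Tr (x * g) = Tr g := hTrJ _ _ (by rw [map_mul, (hπ1 x).mpr hx, one_mul])
        rw [← e, ← hTrmap]
        exact ⟨w, hw, rfl⟩
      obtain ⟨y', hy', he⟩ := pr_mem hTJ (⟨y, hy, rfl⟩ : ρ (g : S) y ∈ Tr g)
      have h0 : y' = 0 := (Submodule.eq_bot_iff _).mp h y' ⟨hy', by
        show ρ (g : S) y' ∈ Fix ρ N
        rw [he]; exact pr_mem_fix N _⟩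
      show pr ρ N _ = 0
      rw [← he, h0, map_zero]
    · refine Or.inl ?_
      have hle : Y0 ≤ Y0 ⊓ (Fix ρ N).comap (ρ (g : S)) := hY0.le_of_le
        ⟨inf_le_left.trans hY0le, h, fun j hj w hw => ⟨hY0J j hj w hw.1, by
          obtain ⟨x, hx, rfl⟩ := hj
          show ρ (g : S) (ρ (x : S) w) ∈ Fix ρ N
          have := hFix ((g * x * g⁻¹ : D) : S) ⟨_, hJn.conj_mem x hx g, rfl⟩ _ hw.2
          rw [Subgroup.coe_mul, Subgroup.coe_mul, Subgroup.coe_inv, rho_mul, rho_mul, rho_inv_apply]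
            at this
          exact this⟩⟩ inf_le_left
      rintro _ ⟨y, hy, rfl⟩
      exact (hle hy).2
  set T1 := Tr d
  set T2 := Tr d'
  set T3 := Tr (d * d')
  set M0 := Y0 ⊔ T1 ⊔ T2 ⊔ T3
  have hb1 : T1.map (ρ b) = T2 := hTrb d
  have hb2 : T2.map (ρ b) = T3 := (hTrb d').trans (hTrJ _ _ hd'')
  have hb3' : T3.map (ρ b) = T1 := by
    rw [← hb2, ← hb1, ← Submodule.map_comp, ← Submodule.map_comp]
    refine (congrArg (Submodule.map · T1) (LinearMap.ext fun v => ?_)).trans (Submodule.map_id T1)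
    simp [rho_b_three hb]
  have hY1 : Tr 1 = Y0 := by
    simp only [Tr]
    rw [show ρ ((1 : D) : S) = LinearMap.id from LinearMap.ext fun v => by simp [rho_one],
      Submodule.map_id]
  have hM0D : ∀ g ∈ D, ∀ w ∈ M0, ρ g w ∈ M0 := by
    let H : Subgroup D :=
      { carrier := {g | M0.map (ρ (g : S)) = M0}
        one_mem' := by
          show M0.map (ρ ((1 : D) : S)) = M0
          rw [show ρ ((1 : D) : S) = LinearMap.id from LinearMap.ext fun v => by simp [rho_one],
            Submodule.map_id]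
        mul_mem' := fun {g h} hg hh => by
          show M0.map (ρ ((g * h : D) : S)) = M0
          rw [show ρ ((g * h : D) : S) = (ρ (g : S)) ∘ₗ (ρ (h : S)) from
            LinearMap.ext fun v => by simp [rho_mul], Submodule.map_comp, hh, hg]
        inv_mem' := fun {g} hg => by
          show M0.map (ρ ((g⁻¹ : D) : S)) = M0
          conv_lhs => rw [← hg]
          rw [← Submodule.map_comp]
          refine (congrArg (Submodule.map · M0) (LinearMap.ext fun v => ?_)).trans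
            (Submodule.map_id M0)
          simp [rho_inv_apply] }
    have himg : ∀ h : D, M0.map (ρ (h : S)) = Tr h ⊔ Tr (h * d) ⊔ Tr (h * d') ⊔ Tr (h * (d * d')) :=
      fun h => by
        simp only [M0, Submodule.map_sup, T1, T2, T3, hTrmap]
        rfl
    have hJH : J ≤ H := fun x hx => by
      show M0.map (ρ (x : S)) = M0
      have e : ∀ g, Tr (x * g) = Tr g := fun g =>
        hTrJ _ _ (by rw [map_mul, (hπ1 x).mpr hx, one_mul])
      rw [himg, e, e, e, show Tr x = Tr (x * 1) by rw [mul_one], e, hY1]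
    have hdH : d ∈ H := by
      show M0.map (ρ (d : S)) = M0
      rw [himg, hTrJ (d * d) 1 (by rw [map_mul, hπ2, map_one]), hY1,
        hTrJ (d * (d * d')) d' (by rw [map_mul, map_mul, ← mul_assoc, hπ2, one_mul])]
      simp only [M0, T1, T2, T3]
      ac_rfl
    have hd'H : d' ∈ H := by
      show M0.map (ρ (d' : S)) = M0
      rw [himg, hTrJ (d' * d') 1 (by rw [map_mul, hπ2, map_one]), hY1,
        hTrJ (d' * d) (d * d') (by rw [map_mul, map_mul, hπc]),
        hTrJ (d' * (d * d')) d (by rw [map_mul, map_mul, hπc, mul_assoc, hπ2, mul_one])]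
      simp only [M0, T1, T2, T3]
      ac_rfl
    intro g hg w hw
    have h : M0.map (ρ g) = M0 := (hgenD H hJH hdH hd'H).ge (mem_top (⟨g, hg⟩ : D))
    exact h.le ⟨w, hw, rfl⟩
  have hT1 : T1 ≤ Mov ρ N := by
    refine (hdich d).resolve_left fun h1 => ?_
    have h2 : T2 ≤ Fix ρ N := by
      rw [← hb1]; rintro _ ⟨w, hw, rfl⟩; rw [hbFix w (h1 hw)]; exact h1 hw
    have h3 : T3 ≤ Fix ρ N := by
      rw [← hb2]; rintro _ ⟨w, hw, rfl⟩; rw [hbFix w (h2 hw)]; exact h2 hw
    have hM0 : M0 ≤ Fix ρ N := sup_le (sup_le (sup_le (hY0le.trans inf_le_left) h1) h2) h3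
    have htriv := fix_of_commutator (W := M0) (fun w hw => hbFix w (hM0 hw)) hM0D
    rw [hgen] at htriv
    refine hY0ne ((Submodule.eq_bot_iff _).mpr fun y hy => eq_zero_of_fix_of_mov h3D
      (fun g hg => htriv g hg y ?_) (hY0le hy).2)
    exact Submodule.mem_sup_left (Submodule.mem_sup_left (Submodule.mem_sup_left hy))
  have hbN : ∀ v ∈ Mov ρ N, ρ b v ∈ Mov ρ N := fun v hv => mov_apply_mem h3N binv_commutator hv
  have hT2 : T2 ≤ Mov ρ N := by rw [← hb1]; rintro _ ⟨w, hw, rfl⟩; exact hbN w (hT1 hw)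
  have hT3 : T3 ≤ Mov ρ N := by rw [← hb2]; rintro _ ⟨w, hw, rfl⟩; exact hbN w (hT2 hw)
  have hdis : ∀ w ∈ T1, w ∈ T2 ⊔ T3 → w = 0 := by
    intro w hw hw'
    have h1 : ρ (d : S) w ∈ Y0 := by
      rw [← hY1, ← hTrJ (d * d) 1 (by rw [map_mul, hπ2, map_one]), ← hTrmap]
      exact ⟨w, hw, rfl⟩
    have h2 : ρ (d : S) w ∈ T3 ⊔ T2 := by
      have h : ρ (d : S) w ∈ (T2 ⊔ T3).map (ρ (d : S)) := ⟨w, hw', rfl⟩
      rw [Submodule.map_sup, hTrmap, hTrmap, hTrJ (d * (d * d')) d'
        (by rw [map_mul, map_mul, ← mul_assoc, hπ2, one_mul])] at h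
      exact h
    have h0 : ρ (d : S) w = 0 :=
      eq_zero_of_fix_of_mov h3N (hY0le h1).1 ((sup_le hT3 hT2) h2)
    rw [← rho_inv_apply ρ (d : S) w, h0, map_zero]
  have hmem : ∀ x ∈ T1, ρ b x ∈ T2 ∧ ρ b (ρ b x) ∈ T3 := fun x hx =>
    ⟨hb1 ▸ ⟨x, hx, rfl⟩, hb2 ▸ ⟨ρ b x, hb1 ▸ ⟨x, hx, rfl⟩, rfl⟩⟩
  have hT1one : finrank (ZMod 3) T1 ≤ 1 := by
    refine le_trans ?_ hb.rank_two
    refine LinearMap.finrank_le_finrank_of_injective
      (f := ((nb ρ b ∘ₗ nb ρ b) ∘ₗ T1.subtype).codRestrict _ fun x => ⟨x, rfl⟩) ?_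
    rw [← LinearMap.ker_eq_bot, eq_bot_iff]
    rintro ⟨x, hx⟩ hx0
    have h : x + ρ b x + ρ b (ρ b x) = 0 := by
      rw [← nb_nb_apply]; exact congrArg Subtype.val hx0
    refine Subtype.ext (hdis x hx ?_)
    rw [add_assoc] at h
    rw [eq_neg_of_add_eq_zero_left h]
    exact neg_mem (Submodule.add_mem_sup (hmem x hx).1 (hmem x hx).2)
  have hTrdim : ∀ g : D, finrank (ZMod 3) (Tr g) = finrank (ZMod 3) Y0 := fun g =>
    (LinearEquiv.finrank_eq (Submodule.equivMapOfInjective (ρ (g : S))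
      (Function.LeftInverse.injective (rho_inv_apply ρ (g : S))) Y0)).symm
  have hM0dim : finrank (ZMod 3) M0 ≤ 4 := by
    have e1 := Submodule.finrank_add_le_finrank_add_finrank (Y0 ⊔ T1 ⊔ T2) T3
    have e2 := Submodule.finrank_add_le_finrank_add_finrank (Y0 ⊔ T1) T2
    have e3 := Submodule.finrank_add_le_finrank_add_finrank Y0 T1
    have f1 : finrank (ZMod 3) T1 = _ := hTrdim d
    have f2 : finrank (ZMod 3) T2 = _ := hTrdim d'
    have f3 : finrank (ZMod 3) T3 = _ := hTrdim (d * d')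
    show finrank (ZMod 3) ↥(Y0 ⊔ T1 ⊔ T2 ⊔ T3) ≤ 4
    omega
  obtain ⟨x, hx, hx0⟩ : ∃ x ∈ T1, x ≠ 0 := by
    refine (Submodule.ne_bot_iff _).mp fun h => hY0ne (Submodule.finrank_eq_zero.mp ?_)
    rw [← hTrdim d, show Tr d = ⊥ from h, finrank_bot]
  obtain ⟨m2, m3⟩ := hmem x hx
  have hrange : LinearMap.range (nb ρ b) ≤ M0 := by
    have hli : LinearIndependent (ZMod 3) ![ρ b x - x, ρ b (ρ b x) - ρ b x] := by
      refine LinearIndependent.pair_iff.mpr fun s t hst => ?_
      have h1 : s • x = (s - t) • ρ b x + t • ρ b (ρ b x) := by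
        rw [← sub_eq_zero]
        calc s • x - ((s - t) • ρ b x + t • ρ b (ρ b x))
            = -(s • (ρ b x - x) + t • (ρ b (ρ b x) - ρ b x)) := by module
          _ = 0 := by rw [hst, neg_zero]
      have hs : s = 0 := (smul_eq_zero.mp (hdis _ (T1.smul_mem s hx) (h1 ▸ Submodule.add_mem_sup
        (T2.smul_mem _ m2) (T3.smul_mem _ m3)))).resolve_right hx0
      refine ⟨hs, by_contra fun ht => hx0 ?_⟩
      rw [hs, zero_smul, zero_add] at hst
      have h2 := sub_eq_zero.mp ((smul_eq_zero.mp hst).resolve_left ht)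
      have h3 : ρ b x = x := by
        have := congrArg (fun v => ρ b (ρ b v)) h2
        simp only [rho_b_three hb] at this
        exact this
      exact hdis x hx (Submodule.mem_sup_left (h3 ▸ m2))
    have hspan : Submodule.span (ZMod 3) (Set.range ![ρ b x - x, ρ b (ρ b x) - ρ b x]) =
        LinearMap.range (nb ρ b) := by
      refine Submodule.eq_of_le_of_finrank_le (Submodule.span_le.mpr ?_) ?_
      · rintro _ ⟨i, rfl⟩
        fin_cases i
        · exact ⟨x, rfl⟩
        · exact ⟨ρ b x, rfl⟩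
      · rw [finrank_span_eq_card hli, Fintype.card_fin]
        exact hb.rank_one
    rw [← hspan, Submodule.span_le]
    rintro _ ⟨i, rfl⟩
    have mx : x ∈ M0 := Submodule.mem_sup_left (Submodule.mem_sup_left (Submodule.mem_sup_right hx))
    have mbx : ρ b x ∈ M0 := Submodule.mem_sup_left (Submodule.mem_sup_right m2)
    fin_cases i
    · exact sub_mem mbx mx
    · exact sub_mem (Submodule.mem_sup_right m3) mbx
  have hle : Mov ρ D ≤ M0 :=
    mov_le_of_commutator h3D hgen (triv_mono hrange (mem_triv_range b)) hM0D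
  exact (Submodule.finrank_mono hle).trans hM0dim

end Cfsg.Agent.CubicThree
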