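import Cfsg.Agent.CubicThree.Dimension
import Cfsg.Agent.Lib.CharCore.GlaubermanSolvable
import Mathlib.LinearAlgebra.Matrix.GeneralLinearGroup.Card

/-!
In the situation of a moved four-group, `b` centralizes every invariant subgroup of odd prime power
order of a solvable group of order prime to three.
-/

set_option autoImplicit false
set_option linter.unusedSectionVars false

namespace Cfsg.Agent.CubicThree

open Subgroup Module
open scoped commutatorElement

attribute [local instance] Fintype.ofFinite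

variable {S : Type*} [Group S] [Finite S] {E : Type*} [AddCommGroup E] [Module (ZMod 3) E]
  [Finite E] {ρ : Representation (ZMod 3) S E}

/-- Nested sums over the three rotations of a fixed-point-free permutation of order three. -/
theorem weight_exists {A : Type*} [Finite A] (σ : A → A) (h3 : ∀ a, σ (σ (σ a)) = a) :
    ∃ w : A → ZMod 3, ∀ a, σ a ≠ a → w a + w (σ a) + w (σ (σ a)) = 1 := by
  classical
  let e := Fintype.equivFin A
  refine ⟨fun a => if e a ≤ e (σ a) ∧ e a ≤ e (σ (σ a)) then 1 else 0, fun a ha => ?_⟩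
  simp only [h3]
  have h1 : (e (σ a)).val ≠ (e a).val := fun h => ha (e.injective (Fin.ext h))
  have h2 : (e (σ (σ a))).val ≠ (e (σ a)).val := fun h => ha (by
    have h' := congrArg (σ ∘ σ) (e.injective (Fin.ext h))
    simp only [Function.comp_apply, h3] at h'
    exact h'.symm ▸ rfl)
  have h4 : (e (σ (σ a))).val ≠ (e a).val := fun h => ha (by
    have h' := congrArg σ (e.injective (Fin.ext h))
    rwa [h3, eq_comm] at h')
  simp only [Fin.le_def]
  split_ifs <;> first | omega | decide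

/-- Fixed-point-free operators: the fixed space of `b` on `[E, A]` lies in the image of `(b - 1)²`. -/
theorem fpf_fixed_le {b : S} (hb : Cubic ρ b) {A : Subgroup S} (h3 : ¬ 3 ∣ Nat.card A)
    (hinv : BInv b A) (hfpf : ∀ a ∈ A, cj b a = a → a = 1) {x : E} (hx : x ∈ Mov ρ A)
    (hbx : ρ b x = x) : x ∈ LinearMap.range (nb ρ b ∘ₗ nb ρ b) := by
  have hb3 := hb.pow_three
  let σ : A → A := fun a => ⟨cj b a, hinv a a.2⟩
  have hσ3 : ∀ a, σ (σ (σ a)) = a := fun a => Subtype.ext (cj_three hb3 (a : S))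
  obtain ⟨w, hw⟩ := weight_exists σ hσ3
  set e := nb ρ b ∘ₗ nb ρ b with he
  let f : A → E := fun a => ρ (a : S) (e (ρ (a : S)⁻¹ x))
  have hbe : ∀ v, ρ b (e v) = e v := fun v => by rw [he, nb_nb_apply, rho_b_sum hb]
  have heb : ∀ v, e (ρ b v) = e v := fun v => by
    rw [he, nb_nb_apply, nb_nb_apply, rho_b_three hb]; abel
  have hfσ : ∀ a, f (σ a) = ρ b (f a) := fun a => by
    have hbx' : ρ b⁻¹ x = x := by
      conv_lhs => rw [← hbx]
      exact rho_inv_apply ρ b x
    have h1 : ρ (cj b (a : S))⁻¹ x = ρ b (ρ (a : S)⁻¹ x) := by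
      rw [show (cj b (a : S))⁻¹ = b * (a : S)⁻¹ * b⁻¹ by simp only [cj]; group, rho_mul, rho_mul,
        hbx']
    have h2 : ∀ v, ρ b⁻¹ (e v) = e v := fun v => by
      conv_lhs => rw [← hbe v]
      exact rho_inv_apply ρ b _
    show ρ (cj b (a : S)) (e (ρ (cj b (a : S))⁻¹ x)) = ρ b (f a)
    rw [h1, heb, cj, rho_mul, rho_mul, h2]
  have hf1 : f 1 = 0 := by
    show ρ ((1 : A) : S) (e (ρ ((1 : A) : S)⁻¹ x)) = 0
    rw [OneMemClass.coe_one, inv_one, rho_one, rho_one, he, nb_nb_apply, hbx, hbx, three_eq_zero]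
  -- the orbit sum
  have hsum1 : ∑ a, f a = e (∑ a, w a • f a) := by
    have hg : ∀ a, f a = w a • f a + w (σ a) • f a + w (σ (σ a)) • f a := by
      intro a
      by_cases ha : σ a = a
      · have h1 : a = 1 := Subtype.ext (hfpf a a.2 (congrArg Subtype.val ha))
        rw [h1, hf1]; simp
      · rw [← add_smul, ← add_smul, hw a ha, one_smul]
    let σe : A ≃ A := ⟨σ, fun a => σ (σ a), hσ3, hσ3⟩
    have r1 : ∑ a, w (σ a) • f a = ∑ a, w a • ρ b (ρ b (f a)) := by
      refine Fintype.sum_equiv σe _ _ fun a => ?_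
      show w (σ a) • f a = w (σ a) • ρ b (ρ b (f (σ a)))
      rw [hfσ, rho_b_three hb]
    have r2 : ∑ a, w (σ (σ a)) • f a = ∑ a, w a • ρ b (f a) := by
      refine Fintype.sum_equiv (σe.trans σe) _ _ fun a => ?_
      show w (σ (σ a)) • f a = w (σ (σ a)) • ρ b (f (σ (σ a)))
      rw [hfσ, hfσ, rho_b_three hb]
    rw [Finset.sum_congr rfl fun a _ => hg a, Finset.sum_add_distrib, Finset.sum_add_distrib, r1, r2,
      map_sum, ← Finset.sum_add_distrib, ← Finset.sum_add_distrib]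
    refine Finset.sum_congr rfl fun a _ => ?_
    rw [map_smul, he, nb_nb_apply, smul_add, smul_add]
    abel
  -- the sum over `A`
  have hsum2 : ∑ a, f a = (Nat.card A : ZMod 3) • x := by
    have hzero : ∑ a : A, ρ (a : S) x = 0 := by
      have h : pr ρ A x = 0 := hx
      rw [pr_apply, smul_eq_zero] at h
      exact h.resolve_left (inv_ne_zero (card_ne_zero h3))
    have key : ∀ β : S, (∀ a : A, β * (a : S)⁻¹ * β⁻¹ ∈ A) → ρ β x = x →
        (∀ a ∈ A, β * a = a * β → a = 1) → ∑ a : A, ρ (a : S) (ρ β (ρ (a : S)⁻¹ x)) = 0 := by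
      intro β hβ hβx hβf
      let δ : A → A := fun a => ⟨(a : S) * (β * (a : S)⁻¹ * β⁻¹), mul_mem a.2 (hβ a)⟩
      have hδ : Function.Injective δ := fun a c h => by
        have h' : (a : S) * (β * (a : S)⁻¹ * β⁻¹) = c * (β * (c : S)⁻¹ * β⁻¹) :=
          congrArg Subtype.val h
        refine Subtype.ext (inv_mul_eq_one.mp (hβf _ (mul_mem (inv_mem c.2) a.2) ?_)).symm
        calc β * ((c : S)⁻¹ * a) = (c : S)⁻¹ * (c * (β * (c : S)⁻¹ * β⁻¹)) * β * a := by group
          _ = (c : S)⁻¹ * (a * (β * (a : S)⁻¹ * β⁻¹)) * β * a := by rw [h']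
          _ = _ := by group
      rw [← hzero]
      refine Fintype.sum_bijective δ (Finite.injective_iff_bijective.mp hδ) _ _ fun a => ?_
      show _ = ρ ((a : S) * (β * (a : S)⁻¹ * β⁻¹)) x
      have hβi : ρ β⁻¹ x = x := by
        conv_lhs => rw [← hβx]
        exact rho_inv_apply ρ β x
      rw [rho_mul, rho_mul, rho_mul, hβi]
    have k1 := key b (fun a => hinv _ (inv_mem a.2)) hbx
      (fun a ha h => hfpf a ha (mul_inv_eq_iff_eq_mul.mpr h))
    have k2 := key (b * b) (fun a => by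
        rw [show b * b * (a : S)⁻¹ * (b * b)⁻¹ = cj b (cj b (a : S)⁻¹) by
          simp [cj, mul_assoc]]
        exact hinv _ (hinv _ (inv_mem a.2))) (by rw [rho_mul, hbx, hbx])
      (fun a ha h => hfpf a ha (by
        have h' : cj b (cj b a) = a := by
          simp only [cj]
          rw [show b * (b * a * b⁻¹) * b⁻¹ = b * b * a * (b * b)⁻¹ by group, h]
          group
        have h4 := cj_three hb3 a
        rwa [h'] at h4))
    have hfa : ∀ a : A, f a =
        x + ρ (a : S) (ρ b (ρ (a : S)⁻¹ x)) + ρ (a : S) (ρ (b * b) (ρ (a : S)⁻¹ x)) := fun a => by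
      show ρ (a : S) (e (ρ (a : S)⁻¹ x)) = _
      rw [he, nb_nb_apply, map_add, map_add, rho_apply_inv, ← rho_mul ρ b b]
    rw [Finset.sum_congr rfl fun a _ => hfa a, Finset.sum_add_distrib, Finset.sum_add_distrib,
      k1, k2, add_zero, add_zero, Finset.sum_const, Finset.card_univ, ← Nat.card_eq_fintype_card,
      Nat.cast_smul_eq_nsmul]
  refine ⟨(Nat.card A : ZMod 3)⁻¹ • ∑ a, w a • f a, ?_⟩
  show e _ = x
  rw [map_smul, ← hsum1, hsum2, smul_smul, inv_mul_cancel₀ (card_ne_zero h3), one_smul]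

/-- The action of a subgroup on an invariant submodule. -/
noncomputable def restrictHom (G : Subgroup S) (W : Submodule (ZMod 3) E)
    (hW : ∀ g ∈ G, ∀ w ∈ W, ρ g w ∈ W) : G →* (Module.End (ZMod 3) W)ˣ :=
  MonoidHom.toHomUnits
    { toFun := fun g => (ρ (g : S)).restrict (hW g g.2)
      map_one' := LinearMap.ext fun w => Subtype.ext (rho_one ρ (w : E))
      map_mul' := fun g h => LinearMap.ext fun w => Subtype.ext (rho_mul ρ (g : S) h w) }

theorem restrictHom_eq_one {G : Subgroup S} {W : Submodule (ZMod 3) E}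
    {hW : ∀ g ∈ G, ∀ w ∈ W, ρ g w ∈ W} {g : G} (h : restrictHom G W hW g = 1) :
    ∀ v ∈ W, ρ (g : S) v = v := fun v hv =>
  congrArg Subtype.val (LinearMap.congr_fun (congrArg Units.val h) ⟨v, hv⟩)

theorem card_units_end (W : Submodule (ZMod 3) E) :
    Nat.card (Module.End (ZMod 3) W)ˣ = ∏ i : Fin (finrank (ZMod 3) W),
      (3 ^ finrank (ZMod 3) W - 3 ^ (i : ℕ)) := by
  rw [Nat.card_congr (Units.mapEquiv (algEquivMatrix (finBasis (ZMod 3) W)).toMulEquiv).toEquiv]
  rw [show Nat.card (Matrix (Fin (finrank (ZMod 3) W)) (Fin (finrank (ZMod 3) W)) (ZMod 3))ˣ = _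
    from Matrix.card_GL_field (𝔽 := ZMod 3) _, ZMod.card]

/-- The group orders that can occur. -/
theorem glThree_facts :
    (∀ k ≤ 8, (∏ i : Fin k, (3 ^ k - 3 ^ (i : ℕ))) ∣
      2 ^ 40 * 3 ^ 28 * (5 * 7 * 11 * 13 * 41 * 1093) ^ 2) ∧
    (∀ k ≤ 3, (∏ i : Fin k, (3 ^ k - 3 ^ (i : ℕ))) ∣ 11232) ∧
    (∀ k ≤ 2, (∏ i : Fin k, (3 ^ k - 3 ^ (i : ℕ))) ∣ 48) ∧
    (∀ k ≤ 4, (∏ i : Fin k, (3 ^ k - 3 ^ (i : ℕ))) ∣ 3 ^ 6 * (2 ^ 9 * 5 * 13)) := by
  refine ⟨?_, ?_, ?_, ?_⟩ <;> intro k hk <;> interval_cases k <;>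
    norm_num [Fin.prod_univ_succ]

/-- A solvable group of order dividing `2⁹·5·13` has a normal subgroup of order 13, if any. -/
theorem normal13 {G : Type*} [Group G] [Finite G] [Group.IsSolvable G]
    (hdvd : Nat.card G ∣ 2 ^ 9 * 5 * 13) {A : Subgroup G} (hA : Nat.card A = 13) : A.Normal := by
  haveI : Fact (Nat.Prime 13) := ⟨by norm_num⟩
  induction hn : Nat.card G using Nat.strong_induction_on generalizing G with
  | _ n ih =>
  haveI : Nontrivial G := Finite.one_lt_card_iff_nontrivial.mp (by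
    have := A.card_subgroup_dvd_card
    rw [hA] at this
    have := Nat.le_of_dvd Nat.card_pos this
    omega)
  obtain ⟨r, N, hr, hN, hNne, hNr⟩ := CharCore.exists_normal_pgroup (A := G)
  haveI := hN
  haveI := Fact.mk hr
  obtain ⟨j, hj⟩ := IsPGroup.iff_card.mp hNr
  have hj0 : j ≠ 0 := fun h => hNne (Subgroup.card_eq_one.mp (by rw [hj, h, pow_zero]))
  have hrj : r ^ j ∣ 2 ^ 9 * 5 * 13 := hj ▸ N.card_subgroup_dvd_card.trans hdvd
  have hr' : r = 2 ∨ r = 5 ∨ r = 13 := by
    have h := (dvd_pow_self r hj0).trans hrj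
    rcases hr.dvd_mul.mp h with h | h
    · rcases hr.dvd_mul.mp h with h | h
      · exact Or.inl ((Nat.prime_dvd_prime_iff_eq hr Nat.prime_two).mp (hr.dvd_of_dvd_pow h))
      · exact Or.inr (Or.inl ((Nat.prime_dvd_prime_iff_eq hr (by norm_num)).mp h))
    · exact Or.inr (Or.inr ((Nat.prime_dvd_prime_iff_eq hr (by norm_num)).mp h))
  by_cases hr13 : r = 13
  · subst hr13
    have hP : IsPGroup 13 ↥(A ⊔ N) :=
      (IsPGroup.of_card (n := 1) (by rw [hA, pow_one])).to_sup_of_normal_right hNr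
    obtain ⟨k, hk⟩ := IsPGroup.iff_card.mp hP
    have hk' : 13 ^ k ∣ 2 ^ 9 * 5 * 13 := hk ▸ (A ⊔ N).card_subgroup_dvd_card.trans hdvd
    have hk1 : k ≤ 1 := by
      by_contra h
      have h2 := (pow_dvd_pow 13 (show 2 ≤ k by omega)).trans hk'
      norm_num at h2
    have h13 : Nat.card ↥(A ⊔ N) ≤ 13 :=
      hk ▸ (Nat.pow_le_pow_right (by norm_num) hk1).trans (pow_one 13).le
    have hjN : 13 ≤ Nat.card N := hj ▸ Nat.le_self_pow hj0 13
    have e1 := Subgroup.eq_of_le_of_card_ge (le_sup_left : A ≤ A ⊔ N) (h13.trans hA.ge)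
    have e2 := Subgroup.eq_of_le_of_card_ge (le_sup_right : N ≤ A ⊔ N) (h13.trans hjN)
    rwa [e1.trans e2.symm]
  -- `A` centralizes `N`
  have hA2 : IsPGroup 13 A := IsPGroup.of_card (n := 1) (by rw [hA, pow_one])
  have hcent : ∀ a ∈ A, ∀ x ∈ N, a * x = x * a := by
    let ψ : A →* MulAut N := (MulAut.conjNormal : G →* MulAut N).comp A.subtype
    letI : MulAction A N := MulAction.compHom N ψ
    have hfix := hA2.card_modEq_card_fixedPoints (α := N)
    have hsm : ∀ (a : A) (x : N), ((a • x : N) : G) = (a : G) * x * (a : G)⁻¹ := fun a x =>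
      MulAut.conjNormal_apply (a : G) x
    let Cn : Subgroup G := N ⊓ centralizer (A : Set G)
    let e : MulAction.fixedPoints A N ≃ Cn :=
      { toFun := fun x => ⟨((x.1 : N) : G), x.1.2, mem_centralizer_iff.mpr fun a ha => by
          have h := congrArg Subtype.val (x.2 ⟨a, ha⟩)
          rw [hsm] at h
          exact mul_inv_eq_iff_eq_mul.mp h⟩
        invFun := fun x => ⟨⟨x.1, x.2.1⟩, fun a => Subtype.ext (by
          rw [hsm, mem_centralizer_iff.mp x.2.2 a a.2, mul_inv_cancel_right])⟩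
        left_inv := fun _ => rfl
        right_inv := fun _ => rfl }
    rw [Nat.card_congr e, hj] at hfix
    obtain ⟨i, hij, hi⟩ := (Nat.dvd_prime_pow hr).mp (hj ▸ card_dvd_of_le (inf_le_left : Cn ≤ N))
    rw [hi] at hfix
    have hij' : i = j := by
      rcases hr' with rfl | rfl | rfl
      · have hj9 : j ≤ 9 := by
          have h : 2 ^ j ∣ 2 ^ 9 := ((Nat.Coprime.pow_left j (by norm_num : Nat.Coprime 2 65)
            ).dvd_of_dvd_mul_right (show 2 ^ j ∣ 2 ^ 9 * 65 by simpa [mul_assoc] using hrj))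
          exact (Nat.pow_dvd_pow_iff_le_right (by norm_num)).mp h
        exact (show ∀ j ≤ 9, ∀ i ≤ j, 2 ^ j % 13 = 2 ^ i % 13 → i = j by decide) j hj9 i hij hfix
      · have hj1 : j ≤ 1 := by
          have h : 5 ^ j ∣ 5 ^ 1 := ((Nat.Coprime.pow_left j (by norm_num : Nat.Coprime 5 6656)
            ).dvd_of_dvd_mul_right (show 5 ^ j ∣ 5 ^ 1 * 6656 by norm_num at hrj ⊢; exact hrj))
          exact (Nat.pow_dvd_pow_iff_le_right (by norm_num)).mp h
        exact (show ∀ j ≤ 1, ∀ i ≤ j, 5 ^ j % 13 = 5 ^ i % 13 → i = j by decide) j hj1 i hij hfix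
      · exact absurd rfl hr13
    have hCN : Cn = N := Subgroup.eq_of_le_of_card_ge inf_le_left (by rw [hi, hj, hij'])
    intro a ha x hx
    exact mem_centralizer_iff.mp (hCN.ge hx).2 a ha
  let π := QuotientGroup.mk' N
  have hlt : Nat.card (G ⧸ N) < n := by
    rw [← hn, Subgroup.card_eq_card_quotient_mul_card_subgroup N]
    exact lt_mul_of_one_lt_right Nat.card_pos ((N.one_lt_card_iff_ne_bot).mpr hNne)
  have hNA : ∀ x ∈ N, x ∈ A → x = 1 := fun x hxN hxA => by
    have h1 : x ^ 13 = 1 := hA ▸ congrArg Subtype.val (pow_card_eq_one' (x := (⟨x, hxA⟩ : A)))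
    have h2 : x ^ r ^ j = 1 := hj ▸ congrArg Subtype.val (pow_card_eq_one' (x := (⟨x, hxN⟩ : N)))
    have hco : Nat.gcd 13 (r ^ j) = 1 :=
      (((Nat.coprime_primes (by norm_num) hr).mpr (Ne.symm hr13)).pow_right j).gcd_eq_one
    have h3 := pow_gcd_eq_one.mpr ⟨h1, h2⟩
    rwa [hco, pow_one] at h3
  have hπinj : Function.Injective (π.comp A.subtype) := by
    rw [injective_iff_map_eq_one]
    exact fun a ha => Subtype.ext (hNA _ ((QuotientGroup.eq_one_iff _).mp ha) a.2)
  have hcardA : Nat.card (A.map π) = 13 := by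
    rw [← hA, ← show (π.comp A.subtype).range = A.map π by
      rw [MonoidHom.range_comp, range_subtype]]
    exact Nat.card_congr (MonoidHom.ofInjective hπinj).toEquiv.symm
  haveI := ih _ hlt (G := G ⧸ N) ((Subgroup.card_quotient_dvd_card N).trans hdvd) hcardA rfl
  refine ⟨fun a ha g => ?_⟩
  have hmem : π (g * a * g⁻¹) ∈ A.map π := by
    rw [map_mul, map_mul, map_inv]
    exact (inferInstance : (A.map π).Normal).conj_mem _ (mem_map_of_mem π ha) _
  obtain ⟨a', ha', hx⟩ := hmem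
  have hxN : a'⁻¹ * (g * a * g⁻¹) ∈ N := (QuotientGroup.eq (s := N)).mp hx
  set x := a'⁻¹ * (g * a * g⁻¹) with hxdef
  have hx13 : (a' * x) ^ 13 = 1 := by
    have h1 : a ^ 13 = 1 := hA ▸ congrArg Subtype.val (pow_card_eq_one' (x := (⟨a, ha⟩ : A)))
    rw [hxdef, mul_inv_cancel_left, conj_pow, h1, mul_one, mul_inv_cancel]
  rw [(show Commute a' x from hcent a' ha' x hxN).mul_pow,
    show a' ^ 13 = 1 from hA ▸ congrArg Subtype.val (pow_card_eq_one' (x := (⟨a', ha'⟩ : A))),
    one_mul] at hx13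
  have hx1 : x = 1 := by
    have h2 : x ^ r ^ j = 1 := hj ▸ congrArg Subtype.val (pow_card_eq_one' (x := (⟨x, hxN⟩ : N)))
    have hco : Nat.gcd 13 (r ^ j) = 1 :=
      (((Nat.coprime_primes (by norm_num) hr).mpr (Ne.symm hr13)).pow_right j).gcd_eq_one
    have h3 := pow_gcd_eq_one.mpr ⟨hx13, h2⟩
    rwa [hco, pow_one] at h3
  rw [show g * a * g⁻¹ = a' * x by rw [hxdef, mul_inv_cancel_left], hx1, mul_one]
  exact ha'

/-- The norm map of an abelian `b`-invariant subgroup: `[A, b]` has no fixed point but `1`. -/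
theorem fpf_of_abelian {b : S} (hb : b ^ 3 = 1) {A : Subgroup S} (h3 : ¬ 3 ∣ Nat.card A)
    (hinv : BInv b A) (hc : ∀ x ∈ A, ∀ y ∈ A, x * y = y * x) (hgen : ⁅A, zpowers b⁆ = A) :
    ∀ a ∈ A, cj b a = a → a = 1 := by
  let T : Subgroup S :=
    { carrier := {x | x ∈ A ∧ x * cj b x * cj b (cj b x) = 1}
      one_mem' := ⟨one_mem A, by simp [cj_one]⟩
      mul_mem' := fun {x y} hx hy => ⟨mul_mem hx.1 hy.1, by
        have c : ∀ u ∈ A, ∀ v ∈ A, Commute u v := hc
        have hx1 := hinv _ hx.1; have hx2 := hinv _ hx1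
        have hy1 := hinv _ hy.1; have hy2 := hinv _ hy1
        rw [cj_mul, cj_mul, (c y hy.1 _ hx1).mul_mul_mul_comm x (cj b y),
          (c (y * cj b y) (mul_mem hy.1 hy1) _ hx2).mul_mul_mul_comm (x * cj b x) (cj b (cj b y)),
          hx.2, hy.2, one_mul]⟩
      inv_mem' := fun {x} hx => ⟨inv_mem hx.1, by
        have hx1 := hinv _ hx.1; have hx2 := hinv _ hx1
        have e : cj b x⁻¹ = (cj b x)⁻¹ := map_inv (MulAut.conj b) x
        have e' : cj b (cj b x)⁻¹ = (cj b (cj b x))⁻¹ := map_inv (MulAut.conj b) _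
        rw [e, e', ← mul_inv_rev, ← mul_inv_rev, inv_eq_one, hc _ hx2 _ (mul_mem hx1 hx.1),
          hc _ hx1 _ hx.1, hx.2]⟩ }
  have hle : A ≤ T := by
    refine hgen.ge.trans (commutator_le.mpr fun x hx β hβ => ?_)
    have hx1 := hinv x hx
    have hx2 := hinv _ hx1
    have hA' : ⁅x, β⁆ ∈ A := hgen.le (commutator_mem_commutator hx hβ)
    refine ⟨hA', ?_⟩
    obtain ⟨k, rfl⟩ := (mem_powers_iff_mem_zpowers).mpr hβ
    have hiter : ∀ j : ℕ, ∀ y ∈ A, b ^ j * y * (b ^ j)⁻¹ ∈ A ∧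
        (b ^ j * y * (b ^ j)⁻¹) * cj b (b ^ j * y * (b ^ j)⁻¹) *
          cj b (cj b (b ^ j * y * (b ^ j)⁻¹)) = y * cj b y * cj b (cj b y) := by
      intro j
      induction j with
      | zero => intro y hy; simp [hy]
      | succ j ihj =>
        intro y hy
        obtain ⟨h1, h2⟩ := ihj y hy
        have e : b ^ (j + 1) * y * (b ^ (j + 1))⁻¹ = cj b (b ^ j * y * (b ^ j)⁻¹) := by
          rw [pow_succ']; simp [cj, mul_assoc]
        refine ⟨e ▸ hinv _ h1, ?_⟩
        rw [e, cj_three hb, ← h2, mul_assoc (b ^ j * y * (b ^ j)⁻¹)]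
        exact (hc _ h1 _ (mul_mem (hinv _ h1) (hinv _ (hinv _ h1)))).symm
    obtain ⟨h1, h2⟩ := hiter k x⁻¹ (inv_mem hx)
    have e : ⁅x, b ^ k⁆ = x * (b ^ k * x⁻¹ * (b ^ k)⁻¹) := by
      simp [commutatorElement_def, mul_assoc]
    rw [e]
    set y := b ^ k * x⁻¹ * (b ^ k)⁻¹
    clear_value y
    have c : ∀ u ∈ A, ∀ v ∈ A, Commute u v := hc
    rw [cj_mul, cj_mul, (c y h1 _ hx1).mul_mul_mul_comm x (cj b y),
      (c (y * cj b y) (mul_mem h1 (hinv _ h1)) _ hx2).mul_mul_mul_comm (x * cj b x)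
        (cj b (cj b y)), h2]
    have e1 : cj b x⁻¹ = (cj b x)⁻¹ := map_inv (MulAut.conj b) x
    have e2 : cj b (cj b x)⁻¹ = (cj b (cj b x))⁻¹ := map_inv (MulAut.conj b) _
    rw [e1, e2, ← mul_inv_rev, ← mul_inv_rev, hc _ hx2 _ (mul_mem hx1 hx), hc _ hx1 _ hx,
      mul_inv_cancel]
  intro a ha hfix
  have h := (hle ha).2
  rw [hfix, hfix, ← pow_three'] at h
  exact eq_one_of_pow_three h3 ha h
where
  eq_one_of_pow_three {A : Subgroup S} (h3 : ¬ 3 ∣ Nat.card A) {a : S} (ha : a ∈ A)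
      (h : a ^ 3 = 1) : a = 1 := by
    have h1 : a ^ Nat.card A = 1 := congrArg Subtype.val (pow_card_eq_one' (x := (⟨a, ha⟩ : A)))
    have hco : Nat.gcd 3 (Nat.card A) = 1 :=
      ((Nat.Prime.coprime_iff_not_dvd Nat.prime_three).mpr h3).gcd_eq_one
    have h2 := pow_gcd_eq_one.mpr ⟨h, h1⟩
    rwa [hco, pow_one] at h2

theorem cj_back' (b d : S) : cj b (b⁻¹ * d * b) = d := by simp [cj, mul_assoc]

/-- `b` centralizes every invariant subgroup of odd prime power order. -/
theorem odd_central {b q : S} (hb : Cubic ρ b) (hq : KD b q) {H : Subgroup S}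
    (hH3 : ¬ 3 ∣ Nat.card H) (hHsol : Group.IsSolvable H) (hHb : BInv b H) (hqH : q ∈ H)
    {r : ℕ} [Fact r.Prime] (hr2 : r ≠ 2) (P : Subgroup S) (hPH : P ≤ H) (hP : IsPGroup r P)
    (hinv : BInv b P) : ⁅P, zpowers b⁆ = ⊥ := by
  induction hc : Nat.card P using Nat.strong_induction_on generalizing P with
  | _ n ih =>
  subst hc
  by_contra hne
  have hb3 := hb.pow_three
  have h3 := not_three_dvd_of_le hPH hH3
  have hrp : r.Prime := Fact.out
  -- minimality
  have hgen : ⁅P, zpowers b⁆ = P := by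
    have hle := commutator_le_self hb3 hinv
    refine Subgroup.eq_of_le_of_card_ge hle (not_lt.mp fun hlt => hne ?_)
    have h1 := ih _ hlt ⁅P, zpowers b⁆ (hle.trans hPH) (hP.to_le hle) binv_commutator rfl
    rwa [commutator_idem hb3 hinv h3] at h1
  have hPne : P ≠ ⊥ := fun h => hne (by rw [h, commutator_bot_left])
  have hmain : ∀ (hfpf : ∀ a ∈ P, cj b a = a → a = 1), False := by
    intro hfpf
    have hW : ∀ g ∈ P, ∀ w ∈ Mov ρ P, ρ g w ∈ Mov ρ P := fun g hg w hw =>
      mov_apply_mem h3 (fun x hx => mul_mem (mul_mem hg hx) (inv_mem hg)) hw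
    set W := Mov ρ P with hWdef
    have hbW : ∀ w ∈ W, ρ b w ∈ W := fun w hw => mov_apply_mem h3 hinv hw
    let g : W →ₗ[ZMod 3] W := (nb ρ b).restrict fun w hw => sub_mem (hbW w hw) hw
    have hker : finrank (ZMod 3) (LinearMap.ker g) ≤ 1 := by
      refine le_trans ?_ hb.rank_two
      refine LinearMap.finrank_le_finrank_of_injective
        (f := (W.subtype ∘ₗ (LinearMap.ker g).subtype).codRestrict _ fun v => ?_) ?_
      · refine fpf_fixed_le hb h3 hinv hfpf v.1.2 (sub_eq_zero.mp ?_)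
        have h : g v.1 = 0 := v.2
        exact congrArg Subtype.val h
      · intro v v' h
        have h' := congrArg Subtype.val h
        exact Subtype.ext (Subtype.ext h')
    have hrg : finrank (ZMod 3) ((LinearMap.range g).map W.subtype) =
        finrank (ZMod 3) (LinearMap.range g) := Submodule.finrank_map_subtype_eq W _
    have hrgle : (LinearMap.range g).map W.subtype ≤ LinearMap.range (nb ρ b) := by
      rintro _ ⟨_, ⟨v, rfl⟩, rfl⟩
      exact ⟨(v : E), rfl⟩
    have hrk := g.finrank_range_add_finrank_ker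
    have hW3 : finrank (ZMod 3) W ≤ 3 := by
      have := (Submodule.finrank_mono hrgle).trans hb.rank_one
      omega
    -- `P` has order 13
    have hinj : Function.Injective (restrictHom P W hW) := by
      rw [injective_iff_map_eq_one]
      exact fun a ha => Subtype.ext (eq_one_on_mov hb.faith h3 a.2 (restrictHom_eq_one ha))
    have hdvd : Nat.card P ∣ ∏ i : Fin (finrank (ZMod 3) W),
        (3 ^ finrank (ZMod 3) W - 3 ^ (i : ℕ)) := by
      rw [← card_units_end]
      exact card_dvd_of_injective _ hinj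
    obtain ⟨j, hj⟩ := IsPGroup.iff_card.mp hP
    have hj0 : j ≠ 0 := fun h => hPne (Subgroup.card_eq_one.mp (by rw [hj, h, pow_zero]))
    have hrdvd : r ∣ Nat.card P := hj ▸ dvd_pow_self r hj0
    have hr3 : r ≠ 3 := fun h => h3 (h ▸ hrdvd)
    have hdim3 : finrank (ZMod 3) W = 3 := by
      by_contra h
      have h48 : r ∣ 2 ^ 4 * 3 := (hrdvd.trans hdvd).trans (glThree_facts.2.2.1 _ (by omega))
      rcases hrp.dvd_mul.mp h48 with h' | h'
      · exact hr2 ((Nat.prime_dvd_prime_iff_eq hrp Nat.prime_two).mp (hrp.dvd_of_dvd_pow h'))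
      · exact hr3 ((Nat.prime_dvd_prime_iff_eq hrp Nat.prime_three).mp h')
    have hcard : Nat.card P = 13 := by
      have h1 : r ^ j ∣ 864 * 13 := (hj ▸ hdvd).trans (glThree_facts.2.1 _ hW3)
      have hco : Nat.Coprime (r ^ j) 864 := by
        refine Nat.Coprime.pow_left j ?_
        rw [show 864 = 2 ^ 5 * 3 ^ 3 by norm_num]
        exact Nat.Coprime.mul_right (((Nat.coprime_primes hrp Nat.prime_two).mpr hr2).pow_right 5)
          (((Nat.coprime_primes hrp Nat.prime_three).mpr hr3).pow_right 3)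
      rcases (Nat.dvd_prime (by norm_num)).mp (hco.dvd_of_dvd_mul_left h1) with h | h
      · exact absurd (Subgroup.card_eq_one.mp (hj.trans h)) hPne
      · exact hj.trans h
    -- both moved spaces contain the image of `b - 1`
    have hrangeW : LinearMap.range (nb ρ b) ≤ W := by
      have h2 : finrank (ZMod 3) (LinearMap.range (nb ρ b)) ≤
          finrank (ZMod 3) ((LinearMap.range g).map W.subtype) := by
        have := hb.rank_one; omega
      rw [← Submodule.eq_of_le_of_finrank_le hrgle h2]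
      exact Submodule.map_subtype_le _ _
    set V := lineV ρ b q
    set X := W ⊔ V with hX
    have hX4 : finrank (ZMod 3) X ≤ 4 := by
      have e := Submodule.finrank_sup_add_finrank_inf_eq W V
      have h1 := Submodule.finrank_mono (le_inf hrangeW (range_nb_le hb hq) :
        LinearMap.range (nb ρ b) ≤ W ⊓ V)
      have h2 := Submodule.finrank_mono hrgle
      have h3' := finrank_lineV hb hq
      rw [← hX] at e
      change finrank (ZMod 3) ↥V ≤ 3 at h3'
      omega
    set G0 := P ⊔ four b q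
    have hG0H : G0 ≤ H := sup_le hPH (four_le hHb hqH)
    have h30 := not_three_dvd_of_le hG0H hH3
    have hG0T : G0 ≤ Triv ρ X :=
      sup_le ((le_triv_mov P).trans (triv_mono le_sup_left))
        ((four_le_triv hb hq).trans (triv_mono le_sup_right))
    have hX' : ∀ g ∈ G0, ∀ w ∈ X, ρ g w ∈ X := fun g hg w hw => triv_apply_mem (hG0T hg) hw
    have hinj0 : Function.Injective (restrictHom G0 X hX') := by
      rw [injective_iff_map_eq_one]
      exact fun a ha => Subtype.ext (eq_one_of_triv hb.faith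
        (fun h => h30 (h.trans (orderOf_dvd_natCard G0 a.2))) (hG0T a.2) (restrictHom_eq_one ha))
    have hdvd0 : Nat.card G0 ∣ 2 ^ 9 * 5 * 13 := by
      have h1 : Nat.card G0 ∣ 3 ^ 6 * (2 ^ 9 * 5 * 13) := by
        refine (card_dvd_of_injective _ hinj0).trans ?_
        rw [card_units_end]
        exact glThree_facts.2.2.2 _ hX4
      exact (Nat.Coprime.pow_right 6 ((Nat.Prime.coprime_iff_not_dvd Nat.prime_three).mpr h30).symm
        ).dvd_of_dvd_mul_left h1
    haveI : Group.IsSolvable G0 := Coprime.solvable_of_le hG0H hHsol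
    have hPn : (P.subgroupOf G0).Normal := normal13 hdvd0
      (by rw [Nat.card_congr (subgroupOfEquivOfLe (le_sup_left : P ≤ G0)).toEquiv, hcard])
    have hnorm : ∀ u ∈ four b q, ∀ a ∈ P, u * a * u⁻¹ ∈ P := fun u hu a ha =>
      hPn.conj_mem ⟨a, mem_sup_left ha⟩ ha ⟨u, mem_sup_right hu⟩
    haveI : Fact (Nat.Prime 13) := ⟨by norm_num⟩
    haveI := isCyclic_of_prime_card hcard
    obtain ⟨⟨a0, ha0⟩, hgen0⟩ := IsCyclic.exists_generator (α := P)
    have hpow : ∀ a ∈ P, ∃ k : ℤ, a0 ^ k = a := fun a ha => by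
      obtain ⟨k, hk⟩ := mem_zpowers_iff.mp (hgen0 ⟨a, ha⟩)
      exact ⟨k, congrArg Subtype.val hk⟩
    -- conjugation by the four-group is trivial on `P`
    obtain ⟨i, hi⟩ := hpow _ (hnorm q (mem_four_left b q) a0 ha0)
    obtain ⟨t, ht⟩ := hpow _ (hinv.back hb3 ha0)
    have hqpow : ∀ k : ℤ, q * a0 ^ k * q⁻¹ = (a0 ^ k) ^ i := fun k => by
      rw [← conj_zpow, ← hi, ← zpow_mul, mul_comm, zpow_mul]
    have hq'a : ∀ a ∈ P, cj b q * a * (cj b q)⁻¹ = a ^ i := fun a ha => by
      obtain ⟨k, hk⟩ := hpow _ (hinv.back hb3 ha)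
      calc cj b q * a * (cj b q)⁻¹ = cj b (q * (b⁻¹ * a * b) * q⁻¹) := by
            rw [cj_mul b (q * _), cj_mul b q, cj_back', show cj b q⁻¹ = (cj b q)⁻¹ from
              map_inv (MulAut.conj b) q]
        _ = cj b ((b⁻¹ * a * b) ^ i) := by rw [← hk, hqpow]
        _ = a ^ i := by
          simp only [cj]
          rw [← conj_zpow]
          congr 1
          group
    have hqa : ∀ a ∈ P, q * a * q⁻¹ = a ^ i := fun a ha => by
      obtain ⟨k, rfl⟩ := hpow a ha
      exact hqpow k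
    have hq''a : ∀ a ∈ P, cj b (cj b q) * a * (cj b (cj b q))⁻¹ = a ^ i := fun a ha => by
      calc cj b (cj b q) * a * (cj b (cj b q))⁻¹
          = cj b (cj b q * (b⁻¹ * a * b) * (cj b q)⁻¹) := by
            rw [cj_mul b (cj b q * _), cj_mul b (cj b q), cj_back',
              show cj b (cj b q)⁻¹ = (cj b (cj b q))⁻¹ from map_inv (MulAut.conj b) _]
        _ = cj b ((b⁻¹ * a * b) ^ i) := by rw [hq'a _ (hinv.back hb3 ha)]
        _ = a ^ i := by
          simp only [cj]
          rw [← conj_zpow]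
          congr 1
          group
    have hai : ∀ a ∈ P, a ^ i = a := fun a ha => by
      have h1 : a ^ i = (a ^ i) ^ i := by
        calc a ^ i = cj b (cj b q) * a * (cj b (cj b q))⁻¹ := (hq''a a ha).symm
          _ = q * (cj b q * a * (cj b q)⁻¹) * q⁻¹ := by rw [hq.prod]; group
          _ = (a ^ i) ^ i := by rw [hq'a a ha, hqa _ (zpow_mem ha i)]
      rw [h1, ← hqa _ (zpow_mem ha i), ← hqa a ha, inv_eq_of_mul_eq_one_right hq.sq]
      rw [show q * (q * a * q) * q = (q * q) * a * (q * q) by group, hq.sq, one_mul, mul_one]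
    obtain ⟨⟨a, ha⟩, hane⟩ := (Subgroup.ne_bot_iff_exists_ne_one).mp hPne
    have hc1 : a * q = q * a := (mul_inv_eq_iff_eq_mul.mp ((hqa a ha).trans (hai a ha))).symm
    have hc2 : a * cj b q = cj b q * a :=
      (mul_inv_eq_iff_eq_mul.mp ((hq'a a ha).trans (hai a ha))).symm
    obtain ⟨k, hk, hkc⟩ := cent hb hq hc1 hc2
    have hkP : k ∈ P := by
      rw [← hkc]
      exact hgen.le (commutator_mem_commutator ha (mem_zpowers b))
    have hk1 : k = 1 := by
      have hk2 : k * k = 1 := by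
        rcases hk with rfl | rfl | rfl | rfl
        exacts [one_mul 1, hq.sq, hq.sq', hq.sq'']
      have h13 : k ^ 13 = 1 := hcard ▸ congrArg Subtype.val (pow_card_eq_one' (x := (⟨k, hkP⟩ : P)))
      have h := pow_gcd_eq_one.mpr ⟨h13, (pow_two k).trans hk2⟩
      rwa [show Nat.gcd 13 2 = 1 by norm_num, pow_one] at h
    rw [hk1] at hkc
    refine hane (Subtype.ext (hfpf a ha ?_))
    have h' : a * b * a⁻¹ = b := mul_inv_eq_one.mp hkc
    show b * a * b⁻¹ = a
    rw [← mul_inv_eq_iff_eq_mul.mp h', mul_inv_cancel_right]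
  by_cases hab : ∀ x ∈ P, ∀ y ∈ P, x * y = y * x
  · exact hmain (fpf_of_abelian hb3 h3 hinv hab hgen)
  -- the nonabelian case
  have hPsol : Group.IsSolvable P := Coprime.solvable_of_le hPH hHsol
  haveI : Nontrivial P := (Subgroup.nontrivial_iff_ne_bot P).mpr hPne
  set P' := ⁅P, P⁆ with hP'def
  have hP'le : P' ≤ P := commutator_le.mpr fun x hx y hy =>
    mul_mem (mul_mem (mul_mem hx hy) (inv_mem hx)) (inv_mem hy)
  have hP'lt : Nat.card P' < Nat.card P := by
    refine lt_of_le_of_ne (card_le_of_le hP'le) fun h => ?_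
    have h' := Subgroup.eq_of_le_of_card_ge hP'le h.ge
    have h'' := (Group.IsSolvable.commutator_lt_top_of_nontrivial (G := P)).ne
    refine h'' (Subgroup.map_injective P.subtype_injective ?_)
    rw [_root_.commutator_def, map_commutator, ← MonoidHom.range_eq_map, range_subtype]
    exact h'
  have hP'inv : BInv b P' := by
    intro x hx
    have h : cj b x ∈ P'.map (MulAut.conj b).toMonoidHom := ⟨x, hx, rfl⟩
    rw [hP'def, map_commutator] at h
    refine commutator_mono ?_ ?_ h <;>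
      rintro _ ⟨y, hy, rfl⟩ <;> exact hinv y hy
  have hP'c : ⁅P', zpowers b⁆ = ⊥ :=
    ih _ hP'lt P' (hP'le.trans hPH) (hP.to_le hP'le) hP'inv rfl
  -- the derived subgroup is central
  have hP'z : ∀ x ∈ P, ∀ u ∈ P', x * u = u * x := by
    have h1 : ⁅⁅zpowers b, P'⁆, P⁆ = ⊥ := by
      rw [Subgroup.commutator_comm (zpowers b), hP'c, commutator_bot_left]
    have h2 : ⁅⁅P', P⁆, zpowers b⁆ = ⊥ := by
      refine le_bot_iff.mp ((commutator_mono ?_ le_rfl).trans hP'c.le)
      exact commutator_mono hP'le le_rfl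
    have h3' := commutator_commutator_eq_bot_of_rotate (H₁ := P) (H₂ := zpowers b) (H₃ := P') h1 h2
    rw [hgen, commutator_eq_bot_iff_le_centralizer] at h3'
    intro x hx u hu
    exact (mem_centralizer_iff.mp (h3' hx) u hu).symm
  -- two commutators with `b` that do not commute
  obtain ⟨y, ⟨h, hh, β, hβ, rfl⟩, x, hx, hxy⟩ : ∃ y, (∃ h ∈ P, ∃ β ∈ zpowers b, ⁅h, β⁆ = y) ∧ ∃ x ∈ P, x * y ≠ y * x := by
    by_contra hno
    push Not at hno
    refine hab fun x hx y hy => ?_
    have hle : ⁅P, zpowers b⁆ ≤ centralizer (P : Set S) := commutator_le.mpr fun h hh β hβ =>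
      mem_centralizer_iff.mpr fun x hx => hno _ ⟨h, hh, β, hβ, rfl⟩ x hx
    exact mem_centralizer_iff.mp (hle (hgen.ge hy)) x hx
  have hyP : ⁅h, β⁆ ∈ P := hgen.le (commutator_mem_commutator hh hβ)
  set y := ⁅h, β⁆ with hydef
  set z := ⁅y, x⁆ with hzdef
  have hzP' : z ∈ P' := commutator_mem_commutator hyP hx
  have hz1 : z ≠ 1 := fun h' => hxy (commutatorElement_eq_one_iff_mul_comm.mp h').symm
  set R := LinearMap.range (nb ρ b)
  set W2 := R ⊔ R.map (ρ h)
  have hW2 : finrank (ZMod 3) W2 ≤ 4 := by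
    have e := Submodule.finrank_add_le_finrank_add_finrank R (R.map (ρ h))
    have e1 := Submodule.finrank_map_le (ρ h) R
    have : finrank (ZMod 3) R ≤ 2 := hb.rank_one
    show finrank (ZMod 3) ↥(R ⊔ R.map (ρ h)) ≤ 4
    omega
  have hconjT : ∀ (W : Submodule (ZMod 3) E) (g u : S), u ∈ Triv ρ W →
      g * u * g⁻¹ ∈ Triv ρ (W.map (ρ g)) := fun W g u hu v => by
    refine ⟨ρ u (ρ g⁻¹ v) - ρ g⁻¹ v, hu _, ?_⟩
    rw [map_sub, rho_apply_inv, ← rho_mul, ← rho_mul, mul_assoc]
  have hy2 : y ∈ Triv ρ W2 := by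
    have hβT : β ∈ Triv ρ R := zpowers_le.mpr (mem_triv_range b) hβ
    rw [hydef, commutatorElement_def]
    exact mul_mem (triv_mono le_sup_right (hconjT R h β hβT))
      (inv_mem (triv_mono le_sup_left hβT))
  set W8 := W2 ⊔ W2.map (ρ x)
  have hW8 : finrank (ZMod 3) W8 ≤ 8 := by
    have e := Submodule.finrank_add_le_finrank_add_finrank W2 (W2.map (ρ x))
    have e1 := Submodule.finrank_map_le (ρ x) W2
    show finrank (ZMod 3) ↥(W2 ⊔ W2.map (ρ x)) ≤ 8
    omega
  have hz8 : z ∈ Triv ρ W8 := by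
    rw [show z = y * (x * y⁻¹ * x⁻¹) by rw [hzdef, commutatorElement_def]; group]
    exact mul_mem (triv_mono le_sup_left hy2)
      (triv_mono le_sup_right (hconjT W2 x _ (inv_mem hy2)))
  have h3z : ¬ 3 ∣ Nat.card (zpowers z) :=
    not_three_dvd_of_le (zpowers_le.mpr (hP'le hzP')) h3
  set M := Mov ρ (zpowers z)
  have hM8 : finrank (ZMod 3) M ≤ 8 :=
    (Submodule.finrank_mono (mov_le h3z (zpowers_le.mpr hz8))).trans hW8
  have hMP : ∀ g ∈ P, ∀ w ∈ M, ρ g w ∈ M := fun g hg w hw => by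
    refine mov_apply_mem h3z (fun u hu => ?_) hw
    obtain ⟨k, rfl⟩ := mem_zpowers_iff.mp hu
    rw [← conj_zpow, hP'z g hg z hzP', mul_inv_cancel_right]
    exact zpow_mem (mem_zpowers z) k
  set φ := restrictHom P M hMP
  haveI : Finite (Module.End (ZMod 3) M) := Finite.of_injective _ DFunLike.coe_injective
  have hφz : φ ⟨z, hP'le hzP'⟩ ≠ 1 := fun h' =>
    hz1 (eq_one_on_mov hb.faith h3z (mem_zpowers z) (restrictHom_eq_one h'))
  have himg : IsPGroup r φ.range := by
    intro u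
    obtain ⟨g, hg⟩ := u.2
    obtain ⟨k, hk⟩ := hP g
    exact ⟨k, Subtype.ext (by rw [SubmonoidClass.coe_pow, ← hg, ← map_pow, hk, map_one]; rfl)⟩
  obtain ⟨k, hk⟩ := IsPGroup.iff_card.mp himg
  have hk3 : 3 ≤ k := by
    by_contra hk'
    have hab' : ∀ u v : φ.range, u * v = v * u := by
      rcases (show k = 0 ∨ k = 1 ∨ k = 2 by omega) with rfl | rfl | rfl
      · haveI := (Nat.card_eq_one_iff_unique.mp hk).1
        exact fun u v => Subsingleton.elim _ _
      · haveI := isCyclic_of_prime_card (hk.trans (pow_one r))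
        letI := IsCyclic.commGroup (α := φ.range)
        exact mul_comm
      · exact IsPGroup.commutative_of_card_eq_prime_sq hk
    refine hφz ?_
    rw [show (⟨z, hP'le hzP'⟩ : P) = ⁅(⟨y, hyP⟩ : P), ⟨x, hx⟩⁆ from Subtype.ext rfl,
      map_commutatorElement, commutatorElement_eq_one_iff_mul_comm]
    exact congrArg Subtype.val (hab' ⟨_, ⟨_, rfl⟩⟩ ⟨_, ⟨_, rfl⟩⟩)
  have hr3dvd : r ^ 3 ∣ 2 ^ 40 * 3 ^ 28 * (5 * 7 * 11 * 13 * 41 * 1093) ^ 2 := by
    refine ((pow_dvd_pow r hk3).trans ?_).trans (glThree_facts.1 _ hM8)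
    rw [← card_units_end, ← hk]
    exact Subgroup.card_subgroup_dvd_card _
  have hr3 : r ≠ 3 := fun h' => h3 (by
    obtain ⟨j, hj⟩ := IsPGroup.iff_card.mp hP
    rw [hj, h']
    exact dvd_pow_self 3 fun h0 => hPne (Subgroup.card_eq_one.mp (by rw [hj, h0, pow_zero])))
  have hco : Nat.Coprime (r ^ 3) (2 ^ 40 * 3 ^ 28) :=
    Nat.Coprime.pow_left 3 (Nat.Coprime.mul_right
      (((Nat.coprime_primes hrp Nat.prime_two).mpr hr2).pow_right 40)
      (((Nat.coprime_primes hrp Nat.prime_three).mpr hr3).pow_right 28))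
  have h6 := hco.dvd_of_dvd_mul_left hr3dvd
  have hrP : r ∣ 5 * 7 * 11 * 13 * 41 * 1093 :=
    hrp.dvd_of_dvd_pow ((dvd_pow_self r (by norm_num : (3 : ℕ) ≠ 0)).trans h6)
  have hlist : r = 5 ∨ r = 7 ∨ r = 11 ∨ r = 13 ∨ r = 41 ∨ r = 1093 := by
    have P5 : Nat.Prime 5 := by norm_num
    have P7 : Nat.Prime 7 := by norm_num
    have P11 : Nat.Prime 11 := by norm_num
    have P13 : Nat.Prime 13 := by norm_num
    have P41 : Nat.Prime 41 := by norm_num
    have P1093 : Nat.Prime 1093 := by norm_num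
    rcases hrp.dvd_mul.mp hrP with h | h
    · rcases hrp.dvd_mul.mp h with h | h
      · rcases hrp.dvd_mul.mp h with h | h
        · rcases hrp.dvd_mul.mp h with h | h
          · rcases hrp.dvd_mul.mp h with h | h
            · exact Or.inl ((Nat.prime_dvd_prime_iff_eq hrp P5).mp h)
            · exact Or.inr (Or.inl ((Nat.prime_dvd_prime_iff_eq hrp P7).mp h))
          · exact Or.inr (Or.inr (Or.inl ((Nat.prime_dvd_prime_iff_eq hrp P11).mp h)))
        · exact Or.inr (Or.inr (Or.inr (Or.inl ((Nat.prime_dvd_prime_iff_eq hrp P13).mp h))))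
      · exact Or.inr (Or.inr (Or.inr (Or.inr (Or.inl ((Nat.prime_dvd_prime_iff_eq hrp P41).mp h)))))
    · exact Or.inr (Or.inr (Or.inr (Or.inr (Or.inr ((Nat.prime_dvd_prime_iff_eq hrp P1093).mp h)))))
  rcases hlist with rfl | rfl | rfl | rfl | rfl | rfl <;> norm_num at h6

end Cfsg.Agent.CubicThree
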