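import Cfsg.Prelude.Def_Transfer
import Cfsg.Agent.CubicThree.Dimension

/-!
The structure of a `2`-group `D = [D, b]` moving at most four dimensions: it is the four-group or
extraspecial of order 32.
-/

set_option autoImplicit false
set_option linter.unusedSectionVars false

namespace Cfsg.Agent.CubicThree

open Subgroup Module
open scoped commutatorElement

attribute [local instance] Fintype.ofFinite

variable {S : Type*} [Group S] [Finite S] {E : Type*} [AddCommGroup E] [Module (ZMod 3) E]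
  [Finite E] {ρ : Representation (ZMod 3) S E}

theorem commute_of_cj_eq {b c : S} (h : cj b c = c) : b * c = c * b :=
  mul_inv_eq_iff_eq_mul.mp h

theorem cj_eq_of_commute {b c : S} (h : b * c = c * b) : cj b c = c :=
  mul_inv_eq_iff_eq_mul.mpr h

theorem cj_back (b d : S) : cj b (b⁻¹ * d * b) = d := by simp [cj, mul_assoc]

theorem cj_inv (b x : S) : cj b x⁻¹ = (cj b x)⁻¹ := by simp only [cj]; group

theorem e_ne_zero {b q : S} (hb : Cubic ρ b) (hq : KD b q) {x : E} (hx : x ∈ line ρ b q)
    (hx0 : x ≠ 0) : (nb ρ b ∘ₗ nb ρ b) x ≠ 0 := by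
  rw [nb_nb_apply]
  intro h
  exact hx0 (indep hb hq hx (rho_b_line b hx) (rho_b_line b (rho_b_line b hx)) (zero_mem _)
    (by rw [add_zero]; exact h)).1

section Fixed

variable {b q : S} (hb : Cubic ρ b) (hq : KD b q) {D : Subgroup S} (hD : IsPGroup 2 D)
  (hinv : BInv b D) (hgen : ⁅D, zpowers b⁆ = D) (hqD : q ∈ D)
include hb hq hD hinv hgen hqD

/-- An involution of `D` commuting with `b` acts as `-1` on `[E, D]`. -/
theorem fixed_invol {c : S} (hc : c ∈ D) (hcc : c * c = 1) (hcb : b * c = c * b) (hc1 : c ≠ 1) :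
    ∀ v ∈ Mov ρ D, ρ c v = -v := by
  have h3D := not_three_dvd_two_group hD
  have hdim := dim_le_four hb hq D hD hinv hgen hqD
  have s1 : ∀ v, ρ c (ρ c v) = v := fun v => by rw [← rho_mul, hcc, rho_one]
  have hbc : ∀ v, ρ c (ρ b v) = ρ b (ρ c v) := fun v => by rw [← rho_mul, ← rho_mul, hcb]
  set Pp := LinearMap.ker (ρ c - LinearMap.id)
  set Pm := LinearMap.ker (ρ c + LinearMap.id)
  have mPp : ∀ v, v ∈ Pp ↔ ρ c v = v := fun v => by
    simp [Pp, LinearMap.mem_ker, sub_eq_zero]
  have mPm : ∀ v, v ∈ Pm ↔ ρ c v = -v := fun v => by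
    simp [Pm, LinearMap.mem_ker, add_eq_zero_iff_eq_neg]
  have hdisj : ∀ v ∈ Pp, v ∈ Pm → v = 0 := fun v h h' => by
    have := ((mPp v).mp h).symm.trans ((mPm v).mp h')
    rw [eq_neg_iff_add_eq_zero, ← neg_eq_add, neg_eq_zero] at this
    exact this
  have hsplit : ∀ v, v + ρ c v ∈ Pp ∧ v - ρ c v ∈ Pm := fun v =>
    ⟨(mPp _).mpr (by rw [map_add, s1]; abel), (mPm _).mpr (by rw [map_sub, s1]; abel)⟩
  have hcompl : IsCompl Pp Pm := by
    refine ⟨Submodule.disjoint_def.mpr hdisj, codisjoint_iff.mpr (eq_top_iff.mpr fun v _ => ?_)⟩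
    have h := Submodule.neg_mem _ (Submodule.add_mem_sup (hsplit v).1 (hsplit v).2)
    rw [show v + ρ c v + (v - ρ c v) = v + v by abel, ← neg_eq_add, neg_neg] at h
    exact h
  -- the determinant
  have hdet : Even (finrank (ZMod 3) Pm) := by
    let e := Submodule.prodEquivOfIsCompl Pp Pm hcompl
    have hc_eq : ρ c = (e : (Pp × Pm) →ₗ[ZMod 3] E) ∘ₗ
        (LinearMap.id.prodMap ((-1 : ZMod 3) • LinearMap.id)) ∘ₗ
        (e.symm : E →ₗ[ZMod 3] (Pp × Pm)) := by
      refine LinearMap.ext fun v => ?_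
      obtain ⟨⟨x, y⟩, rfl⟩ := e.surjective v
      simp only [LinearMap.comp_apply, LinearEquiv.coe_coe, LinearEquiv.symm_apply_apply,
        LinearMap.prodMap_apply, LinearMap.id_apply, LinearMap.smul_apply]
      simp only [e, Submodule.coe_prodEquivOfIsCompl', map_add]
      rw [(mPp x).mp x.2, (mPm y).mp y.2, Submodule.coe_smul, neg_one_smul]
    have h := det_eq_one (ρ := ρ) (hgen.ge hc)
    rw [hc_eq, LinearMap.det_conj, LinearMap.det_prodMap, LinearMap.det_smul, LinearMap.det_id,
      LinearMap.det_id, one_mul, mul_one] at h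
    exact (neg_one_pow_eq_one_iff_even (by decide)).mp h
  have hPmM : Pm ≤ Mov ρ D := fun v hv => by
    have h := le_triv_mov (ρ := ρ) D hc v
    rwa [(mPm v).mp hv, neg_eq_add, add_sub_cancel_right] at h
  set P1 := Mov ρ D ⊓ Pp
  have hsum : finrank (ZMod 3) P1 + finrank (ZMod 3) Pm ≤ finrank (ZMod 3) (Mov ρ D) := by
    have h := Submodule.finrank_sup_add_finrank_inf_eq P1 Pm
    have h0 : P1 ⊓ Pm = ⊥ := (Submodule.eq_bot_iff _).mpr fun v hv => hdisj v hv.1.2 hv.2
    rw [h0, finrank_bot, add_zero] at h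
    rw [← h]
    exact Submodule.finrank_mono (sup_le inf_le_left hPmM)
  obtain ⟨x, hx, hx0⟩ := exists_line_ne_zero hb hq
  have hxM : x ∈ Mov ρ D :=
    lineV_le_mov hb hq hqD (hinv q hqD) (Submodule.mem_sup_left (Submodule.mem_sup_left hx))
  have hbM : ∀ v ∈ Mov ρ D, ρ b v ∈ Mov ρ D := fun v hv => mov_apply_mem h3D hinv hv
  have hbPm : ∀ v ∈ Pm, ρ b v ∈ Pm := fun v hv =>
    (mPm _).mpr (by rw [hbc, (mPm v).mp hv, map_neg])
  have hbP1 : ∀ v ∈ P1, ρ b v ∈ P1 := fun v hv =>
    ⟨hbM v hv.1, (mPp _).mpr (by rw [hbc, (mPp v).mp hv.2])⟩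
  have hcase : 3 ≤ finrank (ZMod 3) P1 ∨ 3 ≤ finrank (ZMod 3) Pm := by
    by_contra h
    push Not at h
    have h1 : (nb ρ b ∘ₗ nb ρ b) (x + ρ c x) = 0 := by_contra fun h' => absurd
      (three_le_finrank hb hbP1 (a := x + ρ c x)
        ⟨add_mem hxM (triv_apply_mem (le_triv_mov D hc) hxM), (hsplit x).1⟩ h')
      (not_le.mpr h.1)
    have h2 : (nb ρ b ∘ₗ nb ρ b) (x - ρ c x) = 0 := by_contra fun h' => absurd
      (three_le_finrank hb hbPm (hsplit x).2 h') (not_le.mpr h.2)
    refine e_ne_zero hb hq hx hx0 ?_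
    have h3 : (nb ρ b ∘ₗ nb ρ b) (x + x) = 0 := by
      rw [show x + x = (x + ρ c x) + (x - ρ c x) by abel, map_add, h1, h2, add_zero]
    rw [← neg_eq_add, map_neg, neg_eq_zero] at h3
    exact h3
  obtain ⟨k, hk⟩ := hdet
  have hPm0 : finrank (ZMod 3) Pm ≠ 0 := fun h0 => by
    have hb0 : Pm = ⊥ := Submodule.finrank_eq_zero.mp h0
    refine hc1 (eq_of_rho ρ hb.faith fun v => ?_)
    rw [rho_one]
    have hv := (hsplit v).2
    rw [hb0, Submodule.mem_bot, sub_eq_zero] at hv
    exact hv.symm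
  have hPmtop : Pm = Mov ρ D := Submodule.eq_of_le_of_finrank_le hPmM (by omega)
  intro v hv
  exact (mPm v).mp (hPmtop.ge hv)

/-- Elements of `D` commuting with `b`. -/
theorem fixed_cases {c : S} (hc : c ∈ D) (hcb : b * c = c * b) :
    c = 1 ∨ ∀ v ∈ Mov ρ D, ρ c v = -v := by
  haveI := Fact.mk Nat.prime_two
  obtain ⟨k, hk⟩ := hD ⟨c, hc⟩
  have hk' : c ^ (2 ^ k) = 1 := congrArg Subtype.val hk
  clear hk
  induction k generalizing c with
  | zero => exact Or.inl (by simpa using hk')
  | succ k ih =>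
    by_cases h1 : c = 1
    · exact Or.inl h1
    have h2 := ih (mul_mem hc hc) ((Commute.mul_right hcb hcb).eq)
      (by rw [← pow_two, ← pow_mul, ← pow_succ', hk'])
    rcases h2 with h2 | h2
    · exact Or.inr (fixed_invol hb hq hD hinv hgen hqD hc h2 hcb h1)
    · exfalso
      obtain ⟨x, hx, hx0⟩ := exists_line_ne_zero hb hq
      set y := (nb ρ b ∘ₗ nb ρ b) x with hy
      have hy0 : y ≠ 0 := e_ne_zero hb hq hx hx0
      have hyM : y ∈ Mov ρ D := by
        have hxM : x ∈ Mov ρ D :=
          lineV_le_mov hb hq hqD (hinv q hqD) (Submodule.mem_sup_left (Submodule.mem_sup_left hx))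
        have hbM : ∀ v ∈ Mov ρ D, ρ b v ∈ Mov ρ D := fun v hv =>
          mov_apply_mem (not_three_dvd_two_group hD) hinv hv
        rw [hy, nb_nb_apply]
        exact add_mem (add_mem hxM (hbM _ hxM)) (hbM _ (hbM _ hxM))
      have hcy : ρ c y ∈ LinearMap.range (nb ρ b ∘ₗ nb ρ b) := by
        have hbc : ∀ v, ρ c (ρ b v) = ρ b (ρ c v) := fun v => by rw [← rho_mul, ← rho_mul, hcb]
        refine ⟨ρ c x, ?_⟩
        rw [hy, nb_nb_apply, nb_nb_apply, map_add, map_add, hbc, hbc, hbc]
      have hspan : Submodule.span (ZMod 3) {y} = LinearMap.range (nb ρ b ∘ₗ nb ρ b) :=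
        Submodule.eq_of_le_of_finrank_le ((Submodule.span_singleton_le_iff_mem _ _).mpr ⟨x, rfl⟩)
          (hb.rank_two.trans (finrank_span_singleton hy0).ge)
      obtain ⟨s, hs⟩ := Submodule.mem_span_singleton.mp (hspan.ge hcy)
      have h := h2 y hyM
      rw [rho_mul, ← hs, map_smul, ← hs, smul_smul, ← neg_one_smul (ZMod 3) y] at h
      exact (show ∀ t : ZMod 3, t * t ≠ -1 by decide) s (smul_left_injective (ZMod 3) hy0 h)

theorem neg_unique {c c' : S} (hc : c ∈ D) (hc' : c' ∈ D) (h : ∀ v ∈ Mov ρ D, ρ c v = -v)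
    (h' : ∀ v ∈ Mov ρ D, ρ c' v = -v) : c = c' := by
  refine inv_mul_eq_one.mp (eq_one_on_mov hb.faith (not_three_dvd_two_group hD)
    (mul_mem (inv_mem hc) hc') fun v hv => ?_)
  rw [rho_mul, h' v hv, ← h v hv, rho_inv_apply]

omit hD hgen in
/-- An element of `D` centralizing the four-group, up to the four-group, commutes with `b`. -/
theorem four_mul_fixed {c : S} (hc : c ∈ D) (h : c * q = q * c)
    (h' : c * cj b q = cj b q * c) :
    ∃ k, (k = 1 ∨ k = q ∨ k = cj b q ∨ k = q * cj b q) ∧ k * c ∈ D ∧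
      b * (k * c) = k * c * b := by
  obtain ⟨k, hk, hkc⟩ := cent hb hq h h'
  have hb3 := hb.pow_three
  have cc : cj b c⁻¹ = c⁻¹ * k := by
    rw [← hkc]; simp only [cj]; group
  have hkq : ∀ k0, (k0 = 1 ∨ k0 = q ∨ k0 = cj b q ∨ k0 = q * cj b q) → k0⁻¹ = k0 := by
    rintro k0 (rfl | rfl | rfl | rfl)
    exacts [inv_one, inv_eq_of_mul_eq_one_right hq.sq, inv_eq_of_mul_eq_one_right hq.sq',
      inv_eq_of_mul_eq_one_right hq.sq'']
  have ccj : cj b c = k * c := by
    have h1 := congrArg (·⁻¹) cc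
    simp only [← cj_inv, inv_inv, mul_inv_rev, hkq k hk] at h1
    exact h1
  have hqc : q * c = c * q := h.symm
  have hq'D := hinv q hqD
  rcases hk with rfl | rfl | rfl | rfl
  · refine ⟨1, Or.inl rfl, by rwa [one_mul], ?_⟩
    exact commute_of_cj_eq (by rw [cj_mul, cj_one, ccj, one_mul, one_mul])
  · refine ⟨cj b k, Or.inr (Or.inr (Or.inl rfl)), mul_mem hq'D hc, commute_of_cj_eq ?_⟩
    rw [cj_mul, hq.prod, ccj, hq.comm, mul_assoc, ← mul_assoc k, hq.sq, one_mul]
  · refine ⟨q * cj b q, Or.inr (Or.inr (Or.inr rfl)), mul_mem (mul_mem hqD hq'D) hc,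
      commute_of_cj_eq ?_⟩
    rw [cj_mul, hq.cj_prod hb3, ccj, ← mul_assoc]
  · refine ⟨q, Or.inr (Or.inl rfl), mul_mem hqD hc, commute_of_cj_eq ?_⟩
    rw [cj_mul, ccj, ← mul_assoc, ← mul_assoc, ← hq.comm, mul_assoc q, hq.sq', mul_one]

/-- If `q` is central in `D` then `D` is the four-group. -/
theorem le_four_of_central (h : ∀ d ∈ D, d * q = q * d) : D ≤ four b q := by
  have hb3 := hb.pow_three
  have h' : ∀ d ∈ D, d * cj b q = cj b q * d := fun d hd => by
    have e := congrArg (cj b) (h _ (hinv.back hb3 hd))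
    rw [cj_mul b (b⁻¹ * d * b), cj_mul b q, cj_back] at e
    exact e
  refine hgen.ge.trans (commutator_le.mpr fun d hd β hβ => ?_)
  obtain ⟨k, hk, -, hkd⟩ := four_mul_fixed hb hq hinv hqD hd (h d hd) (h' d hd)
  have hk4 : k ∈ four b q := by
    rcases hk with rfl | rfl | rfl | rfl
    exacts [one_mem _, mem_four_left b k, mem_four_right b q,
      mul_mem (mem_four_left b q) (mem_four_right b q)]
  obtain ⟨j, rfl⟩ := mem_zpowers_iff.mp hβ
  have hcm : Commute (k * d) (b ^ j) := ((show Commute (k * d) b from hkd.symm).zpow_right j)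
  have e : ⁅d, b ^ j⁆ = k⁻¹ * (b ^ j * k * (b ^ j)⁻¹) := by
    have h2 : d * b ^ j = k⁻¹ * (b ^ j * (k * d)) := by rw [← hcm.eq]; group
    rw [commutatorElement_def, h2]
    group
  rw [e]
  refine mul_mem (inv_mem hk4) ?_
  exact (mem_normalizer_iff.mp
    ((binv_four hq).le_normalizer hb3 (zpow_mem (mem_zpowers b) j)) k).mp hk4

end Fixed

theorem kd_of {b g : S} (h1 : g ≠ 1) (hsq : g * g = 1) (hprod : g * cj b g * cj b (cj b g) = 1) :
    KD b g := by
  have hg'' : cj b (cj b g) = (g * cj b g)⁻¹ := eq_inv_of_mul_eq_one_right hprod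
  have s2 : cj b g * cj b g = 1 := by rw [← cj_mul, hsq, cj_one]
  have s3 : cj b (cj b g) * cj b (cj b g) = 1 := by rw [← cj_mul, s2, cj_one]
  have s4 : g * cj b g * (g * cj b g) = 1 := by
    rw [hg'', ← mul_inv_rev, inv_eq_one] at s3; exact s3
  have hcomm : g * cj b g = cj b g * g := by
    have e := inv_eq_of_mul_eq_one_right s4
    rw [mul_inv_rev, inv_eq_of_mul_eq_one_right hsq, inv_eq_of_mul_eq_one_right s2] at e
    exact e.symm
  exact ⟨h1, hsq, hcomm, hg''.trans (inv_eq_of_mul_eq_one_right s4)⟩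

/-- The structure theorem. -/
theorem structure_two {b q : S} (hb : Cubic ρ b) (hq : KD b q) {D : Subgroup S}
    (hD : IsPGroup 2 D) (hinv : BInv b D) (hgen : ⁅D, zpowers b⁆ = D) (hqD : q ∈ D) :
    D ≤ four b q ∨ (Cfsg.IsExtraspecial 2 D ∧ Nat.card D = 32 ∧
      ∃ A : Subgroup S, A ≤ D ∧ Cfsg.IsElementaryAbelian 2 A ∧ Nat.card A = 8) := by
  haveI := Fact.mk Nat.prime_two
  by_cases hqc : ∀ d ∈ D, d * q = q * d
  · exact Or.inl (le_four_of_central hb hq hD hinv hgen hqD hqc)
  refine Or.inr ?_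
  have hb3 := hb.pow_three
  have hfix : ∀ c ∈ D, b * c = c * b → c = 1 ∨ ∀ v ∈ Mov ρ D, ρ c v = -v := fun c hc h =>
    fixed_cases hb hq hD hinv hgen hqD hc h
  have cen_cj : ∀ g, g ∈ D → (∀ d ∈ D, d * g = g * d) → ∀ d ∈ D, d * cj b g = cj b g * d :=
    fun g _ h d hd => by
      have e := congrArg (cj b) (h _ (hinv.back hb3 hd))
      rw [cj_mul b (b⁻¹ * d * b), cj_mul b g, cj_back] at e
      exact e
  have four_noncen : ∀ k, (k = q ∨ k = cj b q ∨ k = q * cj b q) → k ∈ D →
      ¬ ∀ d ∈ D, d * k = k * d := by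
    rintro k (rfl | rfl | rfl) hkD h
    · exact hqc h
    · have h2 := cen_cj _ (hinv _ hkD) (cen_cj _ hkD h)
      rw [cj_three hb3] at h2
      exact hqc h2
    · have h2 := cen_cj _ hkD h
      rw [hq.cj_prod hb3] at h2
      exact hqc h2
  have hq'D := hinv q hqD
  -- a central element commutes with `b`
  have hcenfix : ∀ g ∈ D, (∀ d ∈ D, d * g = g * d) → b * g = g * b := by
    intro g hg hgc
    obtain ⟨k, hk, hkD, hkg⟩ :=
      four_mul_fixed hb hq hinv hqD hg (hgc q hqD).symm (hgc _ hq'D).symm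
    rcases hk with rfl | hk
    · rwa [one_mul] at hkg
    exfalso
    have hkD' : k ∈ D := by rcases hk with rfl | rfl | rfl <;> aesop
    rcases hfix _ hkD hkg with h | h
    · refine four_noncen k hk hkD' fun d hd => ?_
      rw [eq_inv_of_mul_eq_one_left h]
      exact (show Commute d g from hgc d hd).inv_right.eq
    · set z := k * g with hz
      have hzz : z * z = 1 := eq_one_on_mov hb.faith (not_three_dvd_two_group hD)
        (mul_mem hkD hkD) fun v hv => by rw [rho_mul, h v hv, map_neg, h v hv, neg_neg]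
      have hzb := cj_eq_of_commute hkg
      -- `g * g'` is a central element of the four-group
      have e : g * cj b g = k⁻¹ * (cj b k)⁻¹ := by
        have hkc : g * k = k * g := by
          rcases hk with rfl | rfl | rfl
          · exact (hgc k hkD').symm
          · exact (hgc _ hkD').symm
          · exact (hgc _ hkD').symm
        have hzk : z * k = k * z := by rw [hz, mul_assoc, hkc]
        have g1 : g = k⁻¹ * z := by rw [hz, inv_mul_cancel_left]
        have g2 : cj b g = (cj b k)⁻¹ * z := by rw [g1, cj_mul, cj_inv, hzb]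
        have hzk' : z * (cj b k)⁻¹ = (cj b k)⁻¹ * z := by
          have h' : Commute (cj b z) (cj b k) := by
            show cj b z * cj b k = cj b k * cj b z
            rw [← cj_mul, ← cj_mul, hzk]
          rw [hzb] at h'
          exact h'.inv_right.eq
        calc g * cj b g = k⁻¹ * (z * (cj b k)⁻¹) * z := by rw [g2, g1]; group
          _ = k⁻¹ * (cj b k)⁻¹ * (z * z) := by rw [hzk']; group
          _ = _ := by rw [hzz, mul_one]
      have hcen : ∀ d ∈ D, d * (g * cj b g) = g * cj b g * d := fun d hd =>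
        ((show Commute d g from hgc d hd).mul_right (cen_cj g hg hgc d hd)).eq
      rcases hk with rfl | rfl | rfl
      · refine four_noncen (k * cj b k) (Or.inr (Or.inr rfl)) (mul_mem hkD' (hinv _ hkD')) ?_
        rw [inv_eq_of_mul_eq_one_right hq.sq, inv_eq_of_mul_eq_one_right hq.sq'] at e
        rwa [← e]
      · refine four_noncen q (Or.inl rfl) hqD ?_
        rw [inv_eq_of_mul_eq_one_right hq.sq', hq.prod, inv_eq_of_mul_eq_one_right hq.sq'',
          hq.comm, ← mul_assoc, hq.sq', one_mul] at e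
        rwa [← e]
      · refine four_noncen (cj b q) (Or.inr (Or.inl rfl)) hq'D ?_
        rw [inv_eq_of_mul_eq_one_right hq.sq'', hq.cj_prod hb3, inv_eq_of_mul_eq_one_right hq.sq,
          hq.comm, mul_assoc, hq.sq, mul_one] at e
        rwa [← e]
  -- the central involution `z`
  haveI : Nontrivial D := ⟨⟨q, hqD⟩, 1, fun h => hq.ne_one (congrArg Subtype.val h)⟩
  obtain ⟨z, hzD, hz1, hzc⟩ : ∃ z ∈ D, z ≠ 1 ∧ ∀ d ∈ D, d * z = z * d := by
    obtain ⟨⟨g, hgD⟩, hg, hg1⟩ :=
      (center D).bot_or_exists_ne_one.resolve_left hD.bot_lt_center.ne'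
    exact ⟨g, hgD, fun h => hg1 (Subtype.ext h),
      fun d hd => congrArg Subtype.val (mem_center_iff.mp hg ⟨d, hd⟩)⟩
  have hzb : cj b z = z := cj_eq_of_commute (hcenfix z hzD hzc)
  have hzneg := (hfix z hzD (hcenfix z hzD hzc)).resolve_left hz1
  have hz2 : z * z = 1 := eq_one_on_mov hb.faith (not_three_dvd_two_group hD) (mul_mem hzD hzD)
    fun v hv => by rw [rho_mul, hzneg v hv, map_neg, hzneg v hv, neg_neg]
  have hC : ∀ c ∈ D, b * c = c * b → c = 1 ∨ c = z := fun c hc h => (hfix c hc h).imp_right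
    fun h' => neg_unique hb hq hD hinv hgen hqD hc hzD h' hzneg
  have hzi : z⁻¹ = z := inv_eq_of_mul_eq_one_right hz2
  have fpf : ∀ g ∈ D, cj b g = g ∨ cj b g = g * z → g = 1 ∨ g = z := by
    intro g hg h
    refine hC g hg (commute_of_cj_eq (h.elim id fun h => ?_))
    have h2 : cj b (cj b g) = g := by rw [h, cj_mul, h, hzb, mul_assoc, hz2, mul_one]
    have h3 := cj_three hb3 g
    rwa [h2] at h3
  have hcenZ : ∀ g : D, g ∈ center D ↔ (g : S) = 1 ∨ (g : S) = z := fun g => by
    constructor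
    · intro h
      have hc : ∀ d ∈ D, d * (g : S) = g * d := fun d hd =>
        congrArg Subtype.val (mem_center_iff.mp h ⟨d, hd⟩)
      exact hC g g.2 (hcenfix g g.2 hc)
    · intro h
      refine mem_center_iff.mpr fun d => Subtype.ext ?_
      rcases h with h | h <;> simp [h, hzc d d.2]
  -- elements central modulo `z`
  let Good : S → Prop := fun g => g ∈ D ∧ g ≠ 1 ∧ g ≠ z ∧
    (∀ d ∈ D, d * g = g * d ∨ d * g = g * d * z) ∧ (g * g = 1 ∨ g * g = z) ∧
    g * cj b g * cj b (cj b g) = 1
  have select : ∀ N : Subgroup S, N ≤ D → z ∈ N → (∀ d ∈ D, ∀ n ∈ N, d * n * d⁻¹ ∈ N) →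
      (∃ n ∈ N, n ≠ 1 ∧ n ≠ z) → ∃ g ∈ N, Good g := by
    intro N hND hzN hNn ⟨n, hnN, hn1, hnz⟩
    let π := QuotientGroup.mk' (center D)
    haveI : (N.subgroupOf D).Normal := ⟨fun x hx d => hNn d d.2 x hx⟩
    haveI : ((N.subgroupOf D).map π).Normal :=
      (inferInstance : (N.subgroupOf D).Normal).map π (QuotientGroup.mk'_surjective _)
    have hne : (N.subgroupOf D).map π ≠ ⊥ := fun h => by
      have h1 : π ⟨n, hND hnN⟩ ∈ (⊥ : Subgroup (D ⧸ center D)) :=
        h ▸ ⟨⟨n, hND hnN⟩, hnN, rfl⟩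
      rcases (hcenZ _).mp ((QuotientGroup.eq_one_iff _).mp (mem_bot.mp h1)) with h2 | h2
      exacts [hn1 h2, hnz h2]
    have hQ : IsPGroup 2 (D ⧸ center D) := hD.to_quotient _
    obtain ⟨_, ⟨⟨g, hgN, rfl⟩, hgc⟩, hg1, hg2⟩ :=
      PGroup.exists_mem_pow_eq_one hQ (PGroup.inf_center_ne_bot hQ hne)
    have hgD : (g : S) ∈ D := g.2
    have hgne : (g : S) ≠ 1 ∧ (g : S) ≠ z := by
      constructor <;> intro h <;> refine hg1 ((QuotientGroup.eq_one_iff g).mpr ((hcenZ g).mpr ?_))
      exacts [Or.inl h, Or.inr h]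
    have hcomm : ∀ d ∈ D, d * (g : S) = g * d ∨ d * (g : S) = g * d * z := by
      intro d hd
      have h := mem_center_iff.mp hgc (π ⟨d, hd⟩)
      rw [← map_mul, ← map_mul] at h
      have h' := (hcenZ _).mp ((QuotientGroup.eq (s := center D)).mp h.symm)
      simp only [Subgroup.coe_mul, Subgroup.coe_inv] at h'
      rcases h' with h' | h'
      · exact Or.inl (inv_mul_eq_one.mp h').symm
      · exact Or.inr (inv_mul_eq_iff_eq_mul.mp h')
    have hsq : (g : S) * g = 1 ∨ (g : S) * g = z := by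
      rw [← map_pow] at hg2
      simpa [pow_two] using (hcenZ _).mp ((QuotientGroup.eq_one_iff _).mp hg2)
    set g1 := cj b (g : S)
    set g2 := cj b g1
    have hg1D : g1 ∈ D := hinv _ hgD
    have hg2D : g2 ∈ D := hinv _ hg1D
    have hs : cj b ((g : S) * g1 * g2) = g1 * g2 * g := by
      rw [cj_mul, cj_mul, cj_three hb3]
    have hs' : (g : S) * g1 * g2 = 1 ∨ (g : S) * g1 * g2 = z := by
      refine fpf _ (mul_mem (mul_mem hgD hg1D) hg2D) ?_
      rw [hs]
      rcases hcomm _ (mul_mem hg1D hg2D) with h | h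
      · exact Or.inl (by rw [h, ← mul_assoc])
      · exact Or.inr (by rw [h, ← mul_assoc])
    rcases hs' with hs' | hs'
    · exact ⟨g, hgN, hgD, hgne.1, hgne.2, hcomm, hsq, hs'⟩
    · have hzg : ∀ x ∈ D, z * x = x * z := fun x hx => (hzc x hx).symm
      refine ⟨g * z, mul_mem hgN hzN, mul_mem hgD hzD, fun h => hgne.2 ?_, fun h => hgne.1 ?_,
        fun d hd => ?_, ?_, ?_⟩
      · rw [eq_inv_of_mul_eq_one_left h, hzi]
      · exact mul_eq_right.mp h
      · rcases hcomm d hd with h | h
        · exact Or.inl (by rw [← mul_assoc, h, mul_assoc, mul_assoc, hzg d hd])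
        · exact Or.inr (by rw [← mul_assoc, h, mul_assoc (g : S) z d, hzg d hd, ← mul_assoc])
      · rwa [mul_assoc (g : S) z, ← mul_assoc z, hzg g hgD, mul_assoc (g : S) z z, hz2, mul_one]
      · rw [cj_mul, hzb, cj_mul, hzb]
        rw [(show Commute z g1 from hzg g1 hg1D).mul_mul_mul_comm (g : S) z, hz2, mul_one,
          ← mul_assoc, hs', hz2]
  have hDnonab : ∃ n ∈ D, n ≠ 1 ∧ n ≠ z :=
    ⟨q, hqD, hq.ne_one, fun h => hqc (h ▸ hzc)⟩
  -- a moved four-group, central modulo `z`
  obtain ⟨m, hmD, hm1, hmz, hmc, hmkd⟩ : ∃ m ∈ D, m ≠ 1 ∧ m ≠ z ∧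
      (∀ d ∈ D, d * m = m * d ∨ d * m = m * d * z) ∧ KD b m := by
    obtain ⟨g, -, hgD, hg1, hgz, hgc, hg2, hgp⟩ := select D le_rfl hzD
      (fun d hd n hn => mul_mem (mul_mem hd hn) (inv_mem hd)) hDnonab
    rcases hg2 with hg2 | hg2
    · exact ⟨g, hgD, hg1, hgz, hgc, kd_of hg1 hg2 hgp⟩
    set g' := cj b g with hg'
    have hg'D : g' ∈ D := hinv _ hgD
    have hg'2 : g' * g' = z := by rw [hg', ← cj_mul, hg2, hzb]
    have hgc' : ∀ d ∈ D, d * g' = g' * d ∨ d * g' = g' * d * z := by
      intro d hd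
      have h := hgc _ (hinv.back hb3 hd)
      rcases h with h | h
      · refine Or.inl ?_
        have := congrArg (cj b) h
        rwa [cj_mul b (b⁻¹ * d * b), cj_mul b g, cj_back] at this
      · refine Or.inr ?_
        have := congrArg (cj b) h
        rwa [cj_mul b (b⁻¹ * d * b), cj_mul b (g * _), cj_mul b g, cj_back, hzb] at this
    have hg'' : cj b g' = (g * g')⁻¹ := eq_inv_of_mul_eq_one_right hgp
    have hgg : g' * g = g * g' * z := by
      have h1 : cj b g' * cj b g' = z := by rw [← cj_mul, hg'2, hzb]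
      rw [hg'', ← mul_inv_rev] at h1
      have h2 : g * g' * (g * g') = z := by rw [← inv_inv (g * g' * (g * g')), h1, hzi]
      have gi : g⁻¹ = g * z := inv_eq_of_mul_eq_one_right (by rw [← mul_assoc, hg2, hz2])
      have g'i : g'⁻¹ = g' * z := inv_eq_of_mul_eq_one_right (by rw [← mul_assoc, hg'2, hz2])
      calc g' * g = g⁻¹ * (g * g' * (g * g')) * g'⁻¹ := by group
        _ = g * (z * z) * g' * z := by rw [h2, gi, g'i]; group
        _ = g * g' * z := by rw [hz2, mul_one]
    let C : Subgroup S := D ⊓ centralizer {g, g'}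
    have memC : ∀ c, c ∈ C ↔ c ∈ D ∧ c * g = g * c ∧ c * g' = g' * c := fun c => by
      simp only [C, mem_inf, mem_centralizer_iff, Set.mem_insert_iff, Set.mem_singleton_iff,
        forall_eq_or_imp, forall_eq]
      exact and_congr_right fun _ => and_congr eq_comm eq_comm
    have hzg : ∀ x ∈ D, z * x = x * z := fun x hx => (hzc x hx).symm
    have hconj : ∀ a, a ∈ D → (∀ d ∈ D, d * a = a * d ∨ d * a = a * d * z) →
        ∀ d ∈ D, ∀ c ∈ D, c * a = a * c → d * c * d⁻¹ * a = a * (d * c * d⁻¹) := by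
      intro a haD ha d hd c hcD hca
      obtain ⟨ζ, hζ, e⟩ : ∃ ζ, (∀ x ∈ D, ζ * x = x * ζ) ∧ d⁻¹ * a = a * d⁻¹ * ζ := by
        rcases ha d⁻¹ (inv_mem hd) with h | h
        · exact ⟨1, fun x _ => by rw [one_mul, mul_one], by rw [mul_one, h]⟩
        · exact ⟨z, hzg, h⟩
      have e2 : d * a = a * d * ζ⁻¹ := by
        calc d * a = d * (a * d⁻¹ * ζ) * (d * ζ⁻¹) := by
              rw [show a * d⁻¹ * ζ = a * (d⁻¹ * ζ) from mul_assoc _ _ _, ← hζ d⁻¹ (inv_mem hd)]
              group
          _ = _ := by rw [← e]; group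
      calc d * c * d⁻¹ * a = d * c * (d⁻¹ * a) := by group
        _ = d * (c * a) * d⁻¹ * ζ := by rw [e]; group
        _ = d * a * c * d⁻¹ * ζ := by rw [hca]; group
        _ = a * d * (ζ⁻¹ * (c * d⁻¹)) * ζ := by rw [e2]; group
        _ = a * (d * c * d⁻¹) := by
          rw [show ζ⁻¹ * (c * d⁻¹) = (c * d⁻¹) * ζ⁻¹ from
            ((show Commute ζ (c * d⁻¹) from hζ _ (mul_mem hcD (inv_mem hd))).inv_left).eq]
          group
    have hCn : ∀ d ∈ D, ∀ c ∈ C, d * c * d⁻¹ ∈ C := fun d hd c hc =>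
      (memC _).mpr ⟨mul_mem (mul_mem hd ((memC c).mp hc).1) (inv_mem hd),
        hconj g hgD hgc d hd c hc.1 ((memC c).mp hc).2.1,
        hconj g' hg'D hgc' d hd c hc.1 ((memC c).mp hc).2.2⟩
    have hzC : z ∈ C := (memC z).mpr ⟨hzD, hzg g hgD, hzg g' hg'D⟩
    -- the element `q` gives a nontrivial element of `C`
    have hCne : ∃ n ∈ C, n ≠ 1 ∧ n ≠ z := by
      by_contra h
      push Not at h
      have hC2 : ∀ c ∈ C, c = 1 ∨ c = z := fun c hc => or_iff_not_imp_left.mpr (h c hc)
      have hgg' : g * g' = g' * g * z := by rw [hgg, mul_assoc, hz2, mul_one]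
      have act : ∀ k ∈ D, ∀ a, a ∈ D → ∀ x ∈ D, ∀ ζ, (ζ = 1 ∨ ζ = z) →
          k * a = a * k * ζ → x * a = a * x * ζ → k⁻¹ * x * a = a * (k⁻¹ * x) := by
        intro k hk a ha x hx ζ hζ hka hxa
        have hζc : ∀ y ∈ D, ζ * y = y * ζ := by
          rcases hζ with rfl | rfl
          exacts [fun y _ => by rw [one_mul, mul_one], hzg]
        calc k⁻¹ * x * a = k⁻¹ * (x * a) := mul_assoc _ _ _
          _ = k⁻¹ * (a * (x * ζ)) := by rw [hxa, mul_assoc]
          _ = k⁻¹ * (a * (ζ * k) * (k⁻¹ * x)) := by rw [← hζc x hx]; group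
          _ = k⁻¹ * (k * a) * (k⁻¹ * x) := by rw [hζc k hk, hka]; group
          _ = _ := by group
      have hqk : ∀ k ∈ D, ∀ ζ ζ', (ζ = 1 ∨ ζ = z) → (ζ' = 1 ∨ ζ' = z) →
          k * g = g * k * ζ → k * g' = g' * k * ζ' →
          q * g = g * q * ζ → q * g' = g' * q * ζ' → q = k ∨ q = k * z := by
        intro k hk ζ ζ' hζ hζ' a1 a2 b1 b2
        rcases hC2 _ ((memC _).mpr ⟨mul_mem (inv_mem hk) hqD, act k hk g hgD q hqD ζ hζ a1 b1,
          act k hk g' hg'D q hqD ζ' hζ' a2 b2⟩) with h1 | h1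
        · exact Or.inl (inv_mul_eq_one.mp h1).symm
        · exact Or.inr (inv_mul_eq_iff_eq_mul.mp h1)
      have bad : ∀ k ∈ D, k * k = z → q = k ∨ q = k * z → False := by
        intro k hk hkk hor
        refine hz1 ?_
        rcases hor with rfl | rfl
        · rw [← hkk, hq.sq]
        · rw [← hq.sq]
          rw [mul_assoc k z, ← mul_assoc z k, hzg k hk, mul_assoc k z z, hz2, mul_one, hkk]
      rcases hgc q hqD with b1 | b1 <;> rcases hgc' q hqD with b2 | b2
      · rcases hqk 1 (one_mem D) 1 1 (Or.inl rfl) (Or.inl rfl) (by simp) (by simp)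
          (by simpa using b1) (by simpa using b2) with h1 | h1
        · exact hq.ne_one h1
        · exact hqc (fun d hd => by rw [h1, one_mul]; exact hzc d hd)
      · exact bad g hgD hg2 (hqk g hgD 1 z (Or.inl rfl) (Or.inr rfl) (by simp) hgg'
          (by simpa using b1) b2)
      · exact bad g' hg'D hg'2 (hqk g' hg'D z 1 (Or.inr rfl) (Or.inl rfl) hgg (by simp) b1
          (by simpa using b2))
      · refine bad (g * g') (mul_mem hgD hg'D) ?_ (hqk (g * g') (mul_mem hgD hg'D) z z (Or.inr rfl)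
          (Or.inr rfl) ?_ ?_ b1 b2)
        · calc g * g' * (g * g') = g * (g' * g) * g' := by group
            _ = g * g * g' * (z * g') := by rw [hgg]; group
            _ = g * g * (g' * g') * z := by rw [hzg g' hg'D]; group
            _ = z := by rw [hg2, hg'2, hz2, one_mul]
        · calc g * g' * g = g * (g' * g) := mul_assoc _ _ _
            _ = g * (g * g') * z := by rw [hgg]; group
        · calc g * g' * g' = (g' * g * z) * g' := by rw [← hgg']
            _ = g' * (g * (z * g')) := by group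
            _ = g' * (g * g') * z := by rw [hzg g' hg'D]; group
    obtain ⟨h, hhC, hhD, hh1, hhz, hhc, hh2, hhp⟩ := select C inf_le_left hzC hCn hCne
    rcases hh2 with hh2 | hh2
    · exact ⟨h, hhD, hh1, hhz, hhc, kd_of hh1 hh2 hhp⟩
    obtain ⟨-, hhg, hhg'⟩ := (memC h).mp hhC
    set h' := cj b h with hh'
    have a1 : h' * g' = g' * h' := by rw [hh', hg', ← cj_mul, ← cj_mul, hhg]
    have hhg'' : h * cj b g' = cj b g' * h := by
      rw [hg'']; exact ((show Commute h g from hhg).mul_right hhg').inv_right.eq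
    have a2 : h' * g = g * h' := by
      have := congrArg (cj b) hhg''
      rwa [cj_mul, cj_mul, hg', cj_three hb3] at this
    refine ⟨g * h, mul_mem hgD hhD, fun e => ?_, fun e => ?_, fun d hd => ?_, kd_of ?_ ?_ ?_⟩
    · apply hz1
      have e'' : Commute g⁻¹ g' := eq_inv_of_mul_eq_one_right e ▸ hhg'
      have e' : g * g' = g' * g := (Commute.inv_left_iff.mp e'').eq
      rw [← e', left_eq_mul] at hgg
      exact hgg
    · apply hz1
      have e' : g * g' = g' * g := by
        have h0 : h = g⁻¹ * z := by rw [← e, inv_mul_cancel_left]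
        have hg1' : Commute (g⁻¹ * z) g' := h0 ▸ hhg'
        have h2 := hg1'.mul_left (show Commute z g' from hzg g' hg'D)
        rw [mul_assoc, hz2, mul_one] at h2
        exact Commute.inv_left_iff.mp h2
      rw [← e', left_eq_mul] at hgg
      exact hgg
    · rcases hgc d hd with u | u <;> rcases hhc d hd with w | w
      · exact Or.inl (by rw [← mul_assoc, u, mul_assoc, w, mul_assoc])
      · exact Or.inr (by rw [← mul_assoc, u, mul_assoc, w]; group)
      · refine Or.inr ?_
        calc d * (g * h) = g * d * (z * h) := by rw [← mul_assoc, u, mul_assoc]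
          _ = g * (d * h) * z := by rw [hzg h hhD]; group
          _ = g * h * d * z := by rw [w]; group
      · refine Or.inl ?_
        calc d * (g * h) = g * d * (z * h) := by rw [← mul_assoc, u, mul_assoc]
          _ = g * (d * h) * z := by rw [hzg h hhD]; group
          _ = g * h * d * (z * z) := by rw [w]; group
          _ = g * h * d := by rw [hz2, mul_one]
    · intro e
      apply hz1
      have e' : Commute g g' := Commute.inv_left_iff.mp (eq_inv_of_mul_eq_one_right e ▸ hhg')
      rw [← e'.eq, left_eq_mul] at hgg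
      exact hgg
    · rw [mul_assoc g h, ← mul_assoc h g, hhg, mul_assoc g h h, hh2, ← mul_assoc, hg2, hz2]
    · have hc2 : cj b (g * h) = g' * h' := cj_mul b g h
      rw [hc2, cj_mul]
      have a3 : h' * cj b g' = cj b g' * h' := by
        rw [hg'']; exact ((show Commute h' g from a2).mul_right a1).inv_right.eq
      have a4 : Commute (h * h') (cj b g') := (show Commute h (cj b g') from hhg'').mul_left a3
      rw [(show Commute h g' from hhg').mul_mul_mul_comm g h', a4.mul_mul_mul_comm (g * g'),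
        hgp, hhp, one_mul]
  -- the elementary abelian subgroup of order eight
  set m' := cj b m with hm'
  have hm'D : m' ∈ D := hinv _ hmD
  have hmc' : ∀ d ∈ D, d * m' = m' * d ∨ d * m' = m' * d * z := by
    intro d hd
    rcases hmc _ (hinv.back hb3 hd) with h | h
    · refine Or.inl ?_
      have := congrArg (cj b) h
      rwa [cj_mul b (b⁻¹ * d * b), cj_mul b m, cj_back] at this
    · refine Or.inr ?_
      have := congrArg (cj b) h
      rwa [cj_mul b (b⁻¹ * d * b), cj_mul b (m * _), cj_mul b m, cj_back, hzb] at this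
  have hzm : Commute z m := (hzc m hmD).symm
  have hzm' : Commute z m' := (hzc m' hm'D).symm
  have hmm : Commute m m' := hmkd.comm
  set K : Subgroup S := D ⊓ centralizer {m, m'}
  have memK : ∀ c, c ∈ K ↔ c ∈ D ∧ c * m = m * c ∧ c * m' = m' * c := fun c => by
    simp only [K, mem_inf, mem_centralizer_iff, Set.mem_insert_iff, Set.mem_singleton_iff,
      forall_eq_or_imp, forall_eq]
    exact and_congr_right fun _ => and_congr eq_comm eq_comm
  have hmK : m ∈ K := (memK m).mpr ⟨hmD, rfl, hmm.eq⟩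
  have hm'K : m' ∈ K := (memK m').mpr ⟨hm'D, hmm.eq.symm, rfl⟩
  have hzK : z ∈ K := (memK z).mpr ⟨hzD, hzm.eq, hzm'.eq⟩
  let f : Bool × Bool × Bool → S := fun t =>
    (if t.1 then m else 1) * (if t.2.1 then m' else 1) * (if t.2.2 then z else 1)
  have hfK : ∀ t, f t ∈ K := fun ⟨i, j, l⟩ => by
    cases i <;> cases j <;> cases l <;> simp [f, hmK, hm'K, hzK, mul_mem, one_mem]
  have hKf : ∀ c ∈ K, ∃ t, f t = c := by
    intro c hc
    obtain ⟨hcD, hc1, hc2⟩ := (memK c).mp hc
    obtain ⟨k, hk, hkD, hkc⟩ := four_mul_fixed hb hmkd hinv hmD hcD hc1 hc2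
    have hinvk : k⁻¹ = k := by
      rcases hk with rfl | rfl | rfl | rfl
      exacts [inv_one, inv_eq_of_mul_eq_one_right hmkd.sq, inv_eq_of_mul_eq_one_right hmkd.sq',
        inv_eq_of_mul_eq_one_right hmkd.sq'']
    have hc' : c = k * (k * c) := by
      conv_lhs => rw [← inv_mul_cancel_left k c, hinvk]
    rcases hC _ hkD hkc with h1 | h1 <;> rw [h1] at hc' <;>
      rcases hk with rfl | rfl | rfl | rfl
    exacts [⟨(false, false, false), by simp [f, hc']⟩, ⟨(true, false, false), by simp [f, hc']⟩,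
      ⟨(false, true, false), by simp [f, hm', hc']⟩, ⟨(true, true, false), by simp [f, hm', hc']⟩,
      ⟨(false, false, true), by simp [f, hc']⟩, ⟨(true, false, true), by simp [f, hc']⟩,
      ⟨(false, true, true), by simp [f, hm', hc']⟩, ⟨(true, true, true), by simp [f, hm', hc']⟩]
  have hfix2 : ∀ x, x = 1 ∨ x = z → cj b x = x := by
    rintro x (rfl | rfl)
    exacts [cj_one b, hzb]
  have hm'ne : m' ≠ 1 := (hmkd.shift hb3).ne_one
  have hmm'ne : m * m' ≠ 1 := by
    intro h
    have h2 := ((hmkd.shift hb3).shift hb3).ne_one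
    rw [hmkd.prod] at h2
    exact h2 h
  have hnf : ∀ k, k ∈ D → (k = m ∨ k = m' ∨ k = m * m') → k ≠ z := by
    intro k _ hk hkz
    rcases hk with rfl | rfl | rfl
    · exact hmz hkz
    · refine hmz ?_
      rw [← cj_three hb3 m, ← hm', hkz, hzb, hzb]
    · refine hmz ?_
      rw [← hmkd.cj_prod hb3, ← hm', hkz, hzb]
  have hfinj : Function.Injective f := by
    have hker : ∀ t, f t = 1 → t = (false, false, false) := by
      rintro ⟨i, j, l⟩ h
      cases i <;> cases j <;> cases l <;> simp [f] at h ⊢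
      · exact hz1 h
      · exact hm'ne h
      · exact hnf m' hm'D (Or.inr (Or.inl rfl)) (by rw [eq_inv_of_mul_eq_one_left h, hzi])
      · exact hm1 h
      · exact hmz (by rw [eq_inv_of_mul_eq_one_left h, hzi])
      · exact hmm'ne h
      · exact hnf (m * m') (mul_mem hmD hm'D) (Or.inr (Or.inr rfl))
          (by rw [eq_inv_of_mul_eq_one_left h, hzi])
    intro t t' htt
    have hadd : f t * f t' = f (xor t.1 t'.1, xor t.2.1 t'.2.1, xor t.2.2 t'.2.2) := by
      obtain ⟨i, j, l⟩ := t
      obtain ⟨i', j', l'⟩ := t'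
      have hA : ∀ x y : Bool, Commute (if x then z else 1) (if y then m else 1) := fun x y => by
        cases x <;> cases y <;> simp [hzm]
      have hB : ∀ x y : Bool, Commute (if x then z else 1) (if y then m' else 1) := fun x y => by
        cases x <;> cases y <;> simp [hzm']
      have hC' : ∀ x y : Bool, Commute (if x then m' else 1) (if y then m else 1) := fun x y => by
        cases x <;> cases y <;> simp [hmm.symm]
      have hx : ∀ (a : S), a * a = 1 → ∀ x y : Bool,
          (if x then a else 1) * (if y then a else 1) = if xor x y then a else 1 := fun a ha x y => by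
        cases x <;> cases y <;> simp [ha]
      show (if i then m else 1) * (if j then m' else 1) * (if l then z else 1) *
        ((if i' then m else 1) * (if j' then m' else 1) * (if l' then z else 1)) =
        (if xor i i' then m else 1) * (if xor j j' then m' else 1) * (if xor l l' then z else 1)
      rw [← hx m hmkd.sq, ← hx m' hmkd.sq', ← hx z hz2, mul_assoc, ← mul_assoc (if l then z else 1),
        ((hA l i').mul_right (hB l j')).eq]
      calc _ = (if i then m else 1) * ((if j then m' else 1) * (if i' then m else 1)) *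
            (if j' then m' else 1) * ((if l then z else 1) * (if l' then z else 1)) := by group
        _ = _ := by rw [(hC' j i').eq]; group
    have hsq : f t' * f t' = 1 := by
      obtain ⟨i, j, l⟩ := t'
      have hc := (memK _).mp (hfK (i, j, l))
      cases i <;> cases j <;> cases l <;> simp [f, hmkd.sq, hmkd.sq', hz2, hmkd.sq'', hm']
      all_goals
        first
          | (rw [((show Commute z m from hzm)).eq.symm, ← mul_assoc, hzm.eq, mul_assoc, mul_assoc,
              hz2, mul_one, hmkd.sq])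
          | skip
      all_goals
        first
          | exact (Commute.mul_mul_mul_comm (show Commute z (cj b m) from hzm') _ _).trans
              (by rw [hmkd.sq', hz2, mul_one])
          | exact (Commute.mul_mul_mul_comm (show Commute z (m * cj b m) from hzm.mul_right hzm') _ _).trans
              (by rw [hmkd.sq'', hz2, mul_one])
          | exact (Commute.mul_mul_mul_comm hzm _ _).trans (by rw [hmkd.sq, hz2, mul_one])
    have h0 := hker _ (hadd.symm.trans (by rw [htt, hsq]))
    obtain ⟨i, j, l⟩ := t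
    obtain ⟨i', j', l'⟩ := t'
    simp only [Prod.mk.injEq] at h0
    revert h0
    cases i <;> cases j <;> cases l <;> cases i' <;> cases j' <;> cases l' <;> simp
  have hK8 : Nat.card K = 8 := by
    rw [← Nat.card_congr (Equiv.ofBijective (fun t => (⟨f t, hfK t⟩ : K))
      ⟨fun a a' h => hfinj (congrArg Subtype.val h),
        fun c => (hKf c c.2).imp fun t ht => Subtype.ext ht⟩)]
    simp [Nat.card_eq_fintype_card]
  have hKcomm : ∀ x ∈ K, ∀ y ∈ K, x * y = y * x := by
    intro x hx y hy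
    obtain ⟨⟨i, j, l⟩, rfl⟩ := hKf y hy
    obtain ⟨hxD, hx1, hx2⟩ := (memK x).mp hx
    refine ((Commute.mul_right ?_ ?_).mul_right ?_).eq <;> split_ifs
    exacts [hx1, Commute.one_right _, hx2, Commute.one_right _, hzc x hxD, Commute.one_right _]
  have hKsq : ∀ x ∈ K, x * x = 1 := by
    intro x hx
    obtain ⟨⟨i, j, l⟩, rfl⟩ := hKf x hx
    have h1 : ∀ a a' : S, Commute a a' → a * a = 1 → a' * a' = 1 → a * a' * (a * a') = 1 :=
      fun a a' hc ha ha' => by rw [hc.symm.mul_mul_mul_comm, ha, ha', one_mul]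
    refine h1 _ _ ?_ (h1 _ _ ?_ ?_ ?_) ?_ <;> split_ifs <;>
      first
        | exact Commute.one_right _
        | exact Commute.one_left _
        | exact one_mul _
        | exact hmkd.sq
        | exact hmkd.sq'
        | exact hz2
        | exact hmm
        | exact (hzm.mul_right hzm').symm
        | exact (hzm.mul_right (Commute.one_right _)).symm
        | exact ((Commute.one_right _).mul_right hzm').symm
        | exact ((Commute.one_right z).mul_right (Commute.one_right _)).symm
  -- commutation modulo `z`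
  have hKn : ∀ k ∈ K, cj b k ∈ K := fun k hk => by
    obtain ⟨hkD, h1, h2⟩ := (memK k).mp hk
    refine (memK _).mpr ⟨hinv _ hkD, ?_, by rw [hm', ← cj_mul, ← cj_mul, h1]⟩
    have h3 : Commute (cj b k) (cj b (m * m')) := by
      show cj b k * _ = _ * cj b k
      rw [← cj_mul, ← cj_mul, ((show Commute k m from h1).mul_right h2).eq]
    rw [hm', hmkd.cj_prod hb3] at h3
    exact h3.eq
  let md : D := ⟨m, hmD⟩
  let md' : D := ⟨m', hm'D⟩
  have hmod : ∀ a : D, (∀ d ∈ D, d * (a : S) = a * d ∨ d * (a : S) = a * d * z) →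
      ∀ d : D, ⁅d, a⁆ ∈ center D := by
    intro a ha d
    refine (hcenZ _).mpr ?_
    have e : ((⁅d, a⁆ : D) : S) = (d : S) * a * ((a : S) * d)⁻¹ := by
      simp [commutatorElement_def, mul_assoc]
    rw [e]
    rcases ha d d.2 with h | h
    · exact Or.inl (by rw [h, mul_inv_cancel])
    · refine Or.inr ?_
      rw [h, mul_inv_eq_iff_eq_mul]
      exact hzc _ (mul_mem a.2 d.2)
  have hlam : ∀ a : D, (∀ d : D, ⁅d, a⁆ ∈ center D) → ∀ d e : D,
      ⁅d * e, a⁆ = ⁅d, a⁆ * ⁅e, a⁆ := fun a ha d e => by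
    rw [show ⁅d * e, a⁆ = d * ⁅e, a⁆ * d⁻¹ * ⁅d, a⁆ by
      simp [commutatorElement_def, mul_assoc]]
    rw [mem_center_iff.mp (ha e) d, mul_inv_cancel_right, mem_center_iff.mp (ha d)]
  have hcm := hmod md hmc
  have hcm' := hmod md' hmc'
  let lam : D →* center D × center D :=
    { toFun := fun d => (⟨⁅d, md⁆, hcm d⟩, ⟨⁅d, md'⁆, hcm' d⟩)
      map_one' := by ext <;> simp
      map_mul' := fun d e => by
        ext
        · exact congrArg Subtype.val (hlam md hcm d e)
        · exact congrArg Subtype.val (hlam md' hcm' d e) }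
  have hker : lam.ker = K.subgroupOf D := by
    ext d
    rw [MonoidHom.mem_ker, mem_subgroupOf, memK]
    show (_, _) = (1 : center D × center D) ↔ _
    rw [Prod.mk_eq_one]
    constructor
    · rintro ⟨h1, h2⟩
      exact ⟨d.2,
        congrArg Subtype.val (commutatorElement_eq_one_iff_mul_comm.mp (congrArg Subtype.val h1)),
        congrArg Subtype.val (commutatorElement_eq_one_iff_mul_comm.mp (congrArg Subtype.val h2))⟩
    · rintro ⟨-, h1, h2⟩
      exact ⟨Subtype.ext (commutatorElement_eq_one_iff_mul_comm.mpr (Subtype.ext h1)),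
        Subtype.ext (commutatorElement_eq_one_iff_mul_comm.mpr (Subtype.ext h2))⟩
  have hcard2 : Nat.card (center D) = 2 := by
    refine Nat.card_eq_two_iff.mpr ⟨1, ⟨⟨z, hzD⟩, (hcenZ _).mpr (Or.inr rfl)⟩,
      fun h => hz1 (congrArg (fun x : center D => ((x : D) : S)) h).symm, ?_⟩
    refine Set.eq_univ_of_forall fun x => ?_
    rcases (hcenZ x).mp x.2 with h | h
    · exact Or.inl (Subtype.ext (Subtype.ext h))
    · exact Or.inr (Subtype.ext (Subtype.ext h))
  have hKD : K ≤ D := inf_le_left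
  have hfpfK : ∀ x ∈ D, x⁻¹ * cj b x ∈ K → x ∈ K := by
    intro x hx hxK
    obtain ⟨⟨i, j, l⟩, ht⟩ := hKf _ hxK
    obtain ⟨n, hn, hnm⟩ : ∃ n ∈ K,
        (if i then m else 1) * (if j then m' else 1) * cj b n = n := by
      cases i <;> cases j
      · exact ⟨1, one_mem K, by simp [cj_one]⟩
      · refine ⟨m * m', mul_mem hmK hm'K, ?_⟩
        simp only [Bool.false_eq_true, if_false, if_true, one_mul]
        rw [hm', hmkd.cj_prod hb3, ← hmkd.comm]
      · refine ⟨m', hm'K, ?_⟩
        simp only [Bool.false_eq_true, if_false, if_true, mul_one]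
        rw [hm', hmkd.prod, ← mul_assoc, hmkd.sq, one_mul]
      · refine ⟨m, hmK, ?_⟩
        simp only [if_true]
        rw [← hm', mul_assoc, hmkd.sq', mul_one]
    have hzn : ∀ l : Bool, Commute (if l then z else 1) (cj b n) := fun l => by
      cases l
      · exact Commute.one_left _
      · exact (hzc _ (hKD (hKn n hn))).symm
    have hxn : cj b (x * n) = x * n * (if l then z else 1) := by
      rw [cj_mul, ← mul_inv_cancel_left x (cj b x), ← ht]
      simp only [f]
      rw [mul_assoc x, mul_assoc _ (if l then z else 1), (hzn l).eq, ← mul_assoc _ (cj b n), hnm,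
        ← mul_assoc]
    have hxn' : x * n = 1 ∨ x * n = z := fpf _ (mul_mem hx (hKD hn)) (by
      cases l <;> simp [hxn])
    rw [show x = x * n * n⁻¹ by group]
    refine mul_mem ?_ (inv_mem hn)
    rcases hxn' with h | h <;> rw [h]
    exacts [one_mem _, hzK]
  obtain ⟨x, hxD, hxK⟩ : ∃ x ∈ D, x ∉ K := by
    by_contra h
    push Not at h
    exact hqc fun d hd => hKcomm d (h d hd) q (h q hqD)
  set x' := cj b x with hx'
  set x'' := cj b x' with hx''
  have hx'D : x' ∈ D := hinv _ hxD
  have hx''D : x'' ∈ D := hinv _ hx'D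
  let xd : D := ⟨x, hxD⟩
  let xd' : D := ⟨x', hx'D⟩
  let xd'' : D := ⟨x'', hx''D⟩
  have hKmem : ∀ d : D, lam d = 1 ↔ (d : S) ∈ K := fun d => by
    rw [← MonoidHom.mem_ker, hker, mem_subgroupOf]
  have hKb : ∀ y, cj b y ∈ K → y ∈ K := fun y hy => by
    rw [← cj_three hb3 y]; exact hKn _ (hKn _ hy)
  have n1 : lam xd ≠ 1 := fun h => hxK ((hKmem xd).mp h)
  have n2 : lam xd' ≠ 1 := fun h => hxK (hKb x ((hKmem xd').mp h))
  have n3 : lam xd'' ≠ 1 := fun h => hxK (hKb x (hKb x' ((hKmem xd'').mp h)))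
  have hdist : ∀ u v : D, lam u = lam v → (u : S)⁻¹ * v ∈ K := fun u v h =>
    (hKmem (u⁻¹ * v)).mp (by rw [map_mul, map_inv, h, inv_mul_cancel])
  have d12 : lam xd ≠ lam xd' := fun h => hxK (hfpfK x hxD (hdist _ _ h))
  have d23 : lam xd' ≠ lam xd'' := fun h => hxK (hKb x (hfpfK x' hx'D (hdist _ _ h)))
  have d31 : lam xd'' ≠ lam xd := fun h => hxK (hKb x (hKb x' (hfpfK x'' hx''D (by
    rw [hx'', hx', cj_three hb3]; exact hdist _ _ h))))
  have h4 : Nat.card (center D × center D) = 4 := by rw [Nat.card_prod, hcard2]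
  have hall : ∀ w : center D × center D,
      w = 1 ∨ w = lam xd ∨ w = lam xd' ∨ w = lam xd'' := by
    intro w
    by_contra h
    push Not at h
    classical
    obtain ⟨w1, w2, w3, w4⟩ := h
    have hs : ({1, lam xd, lam xd', lam xd'', w} : Finset (center D × center D)).card = 5 := by
      simp [n1.symm, n2.symm, n3.symm, d12, d23, d31.symm, w1.symm, w2.symm, w3.symm, w4.symm]
    have := Finset.card_le_univ ({1, lam xd, lam xd', lam xd'', w} : Finset (center D × center D))
    rw [hs, ← Nat.card_eq_fintype_card, h4] at this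
    omega
  have hD32 : Nat.card D = 32 := by
    have hsurj : Function.Surjective lam := fun w => by
      rcases hall w with h | h | h | h
      exacts [⟨1, by rw [h, map_one]⟩, ⟨xd, h.symm⟩, ⟨xd', h.symm⟩, ⟨xd'', h.symm⟩]
    rw [← (lam.ker).card_mul_index, index_ker, MonoidHom.range_eq_top.mpr hsurj, hker,
      Nat.card_congr (subgroupOfEquivOfLe hKD).toEquiv, hK8, card_top, h4]
  have hprod : lam xd'' = lam xd * lam xd' := by
    have hexp : ∀ w : center D, w * w = 1 := fun w => by
      have h := pow_card_eq_one' (x := w)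
      rwa [hcard2, pow_two] at h
    have hsq : ∀ w : center D × center D, w * w = 1 := fun w => Prod.ext (hexp _) (hexp _)
    rcases hall (lam xd * lam xd') with h | h | h | h
    · exact absurd ((eq_inv_of_mul_eq_one_left h).trans (inv_eq_of_mul_eq_one_right (hsq _))) d12
    · exact absurd (mul_eq_left.mp h) n2
    · exact absurd (mul_eq_right.mp h) n1
    · exact h.symm
  -- `D` modulo its centre is abelian
  let π := QuotientGroup.mk' (center D)
  have hπK : ∀ k : D, (k : S) ∈ K → ∀ d : D, Commute (π d) (π k) := by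
    intro k hk d
    obtain ⟨⟨i, j, l⟩, ht⟩ := hKf _ hk
    have e : k = (if i then md else 1) * (if j then md' else 1) *
        (if l then ⟨z, hzD⟩ else 1) := by
      apply Subtype.ext
      rw [← ht]
      cases i <;> cases j <;> cases l <;> simp [f, md, md']
    rw [e, map_mul, map_mul]
    have hstep : ∀ a : D, (∀ d : D, ⁅d, a⁆ ∈ center D) → Commute (π d) (π a) := fun a ha => by
      refine commutatorElement_eq_one_iff_mul_comm.mp ?_
      rw [← map_commutatorElement]
      exact (QuotientGroup.eq_one_iff _).mpr (ha d)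
    refine (Commute.mul_right ?_ ?_).mul_right ?_ <;> split_ifs <;>
      first
        | exact hstep _ hcm
        | exact hstep _ hcm'
        | (rw [map_one]; exact Commute.one_right _)
        | (rw [show π ⟨z, hzD⟩ = 1 from
              (QuotientGroup.eq_one_iff (⟨z, hzD⟩ : D)).mpr ((hcenZ _).mpr (Or.inr rfl))]
           exact Commute.one_right _)
  obtain ⟨k, hkK, hk⟩ : ∃ k : D, (k : S) ∈ K ∧ xd'' = xd * xd' * k :=
    ⟨(xd * xd')⁻¹ * xd'', (hKmem _).mp (by rw [map_mul, map_inv, map_mul, hprod, inv_mul_cancel]),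
      by rw [mul_inv_cancel_left]⟩
  have huv : Commute (π xd) (π xd') := by
    set w : D := ⁅xd, xd'⁆
    have hwK : (w : S) ∈ K := (hKmem w).mp (by
      rw [map_commutatorElement]
      exact commutatorElement_eq_one_iff_mul_comm.mpr (Prod.ext (mul_comm' _ _) (mul_comm' _ _)))
    set w' : D := ⁅xd', xd''⁆
    have hw' : (w' : S) = cj b (w : S) := by
      simp only [w', w, xd, xd', xd'', commutatorElement_def, Subgroup.coe_mul, Subgroup.coe_inv,
        cj_mul, cj_inv, hx'', hx']
    have e : π w' * π w = 1 := by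
      simp only [w', w, map_commutatorElement, hk, map_mul]
      have hkc := hπK k hkK
      rw [commutatorElement_def, commutatorElement_def]
      calc π xd' * (π xd * π xd' * π k) * (π xd')⁻¹ * (π xd * π xd' * π k)⁻¹ *
            (π xd * π xd' * (π xd)⁻¹ * (π xd')⁻¹)
          = π xd' * π xd * π xd' * (π k * (π xd')⁻¹) * (π k)⁻¹ * (π xd')⁻¹ * (π xd)⁻¹ *
            (π xd * π xd' * (π xd)⁻¹ * (π xd')⁻¹) := by group
        _ = 1 := by rw [← ((hkc xd').inv_left).eq]; group
    have hw2 : (w : S) * w = 1 := hKsq _ hwK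
    have hcw : cj b (w : S) = w ∨ cj b (w : S) = w * z := by
      rw [← map_mul] at e
      rcases (hcenZ _).mp ((QuotientGroup.eq_one_iff _).mp e) with h | h <;>
        rw [Subgroup.coe_mul, hw'] at h
      · exact Or.inl ((eq_inv_of_mul_eq_one_left h).trans (inv_eq_of_mul_eq_one_right hw2))
      · refine Or.inr ?_
        rw [← mul_one (cj b (w : S)), ← hw2, ← mul_assoc, h, hzc _ w.2]
    refine commutatorElement_eq_one_iff_mul_comm.mp ?_
    rw [← map_commutatorElement]
    exact (QuotientGroup.eq_one_iff _).mpr ((hcenZ _).mpr (fpf _ w.2 hcw))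
  have hdec : ∀ d : D, ∃ y : D, (y = 1 ∨ y = xd ∨ y = xd' ∨ y = xd * xd') ∧
      ∃ k : D, (k : S) ∈ K ∧ d = y * k := by
    intro d
    have hex : ∀ y : D, lam d = lam y → ∃ k : D, (k : S) ∈ K ∧ d = y * k := fun y h =>
      ⟨y⁻¹ * d, (hKmem _).mp (by rw [map_mul, map_inv, h, inv_mul_cancel]),
        by rw [mul_inv_cancel_left]⟩
    rcases hall (lam d) with h | h | h | h
    · exact ⟨1, Or.inl rfl, hex 1 (by rw [map_one]; exact h)⟩
    · exact ⟨xd, Or.inr (Or.inl rfl), hex xd h⟩
    · exact ⟨xd', Or.inr (Or.inr (Or.inl rfl)), hex xd' h⟩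
    · exact ⟨xd * xd', Or.inr (Or.inr (Or.inr rfl)), hex _ (by rw [map_mul, ← hprod]; exact h)⟩
  have hab : ∀ d e : D, Commute (π d) (π e) := by
    intro d e
    obtain ⟨y, hy, k, hkK, rfl⟩ := hdec d
    obtain ⟨y', hy', k', hk'K, rfl⟩ := hdec e
    rw [map_mul, map_mul]
    refine Commute.mul_right (Commute.mul_left ?_ (hπK k hkK y').symm)
      (Commute.mul_left (hπK k' hk'K y) (hπK k' hk'K k))
    rcases hy with rfl | rfl | rfl | rfl <;> rcases hy' with rfl | rfl | rfl | rfl <;>
      (try simp only [map_one, map_mul]) <;>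
      first
        | exact Commute.one_left _
        | exact Commute.one_right _
        | exact Commute.refl _
        | exact huv
        | exact huv.symm
        | exact (Commute.refl _).mul_right huv
        | exact huv.symm.mul_right (Commute.refl _)
        | exact ((Commute.refl _).mul_right huv).symm
        | exact (huv.symm.mul_right (Commute.refl _)).symm
  have hcd : ∀ d e : D, ⁅d, e⁆ ∈ center D := fun d e => (QuotientGroup.eq_one_iff _).mp (by
    rw [show (QuotientGroup.mk ⁅d, e⁆ : D ⧸ center D) = π ⁅d, e⁆ from rfl, map_commutatorElement]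
    exact commutatorElement_eq_one_iff_mul_comm.mpr (hab d e).eq)
  have hcle : _root_.commutator D ≤ center D := by
    rw [_root_.commutator_def, commutator_le]
    exact fun d _ e _ => hcd d e
  have hsqc : ∀ d : D, d ^ 2 ∈ center D := fun d => mem_center_iff.mpr fun e => by
    have hexp : ∀ w : D, w ∈ center D → w * w = 1 := fun w hw => Subtype.ext (by
      rcases (hcenZ w).mp hw with h | h <;> simp [h, hz2])
    refine (commutatorElement_eq_one_iff_mul_comm.mp ?_).symm
    rw [pow_two, hlam e (fun d => hcd d e) d d]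
    exact hexp _ (hcd d e)
  have hne : _root_.commutator D ≠ ⊥ := fun h => hqc fun d hd => by
    have h1 : ⁅(⟨d, hd⟩ : D), (⟨q, hqD⟩ : D)⁆ ∈ _root_.commutator D :=
      commutator_mem_commutator (mem_top _) (mem_top _)
    rw [h, mem_bot, commutatorElement_eq_one_iff_mul_comm] at h1
    exact congrArg Subtype.val h1
  have hceq : _root_.commutator D = center D := by
    refine Subgroup.eq_of_le_of_card_ge hcle ?_
    rw [hcard2]
    exact (one_lt_card_iff_ne_bot _).mpr hne
  refine ⟨⟨⟨hD, le_antisymm (PGroup.frattini_le_of_quotient (p := 2) hcle hsqc)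
      (hceq.ge.trans (PGroup.commutator_le_frattini hD)), hceq⟩, hcard2⟩, hD32,
    K, hKD, ⟨⟨⟨fun a c => Subtype.ext (hKcomm a a.2 c c.2)⟩⟩, fun a ha => ?_⟩, hK8⟩
  rw [pow_two]
  exact hKsq a ha

end Cfsg.Agent.CubicThree
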