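import Cfsg.Prelude.Def_Solvable
import Cfsg.Agent.CubicThree.Structure
import Cfsg.Agent.CubicThree.OddPrime
import Cfsg.Agent.Lib.Thompson.Cores
import Cfsg.Agent.OddLocal44.Stability

/-!
`[O_{3'}(S), B]` for a cubic element of order three moving a four-group.
-/

set_option autoImplicit false
set_option linter.unusedSectionVars false

namespace Cfsg.Agent.CubicThree

open Subgroup Module
open scoped commutatorElement

attribute [local instance] Fintype.ofFinite

variable {S : Type*} [Group S] [Finite S] {E : Type*} [AddCommGroup E] [Module (ZMod 3) E]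
  [Finite E] {ρ : Representation (ZMod 3) S E}

theorem cubic_of_block (hfaith : Function.Injective ρ) {b : S} (hb3 : b ^ 3 = 1)
    (E₀ E₁ : Submodule (ZMod 3) E) (hE01' : E₀ ⊔ E₁ = ⊤) (hE1 : ∀ v ∈ E₁, ρ b v = v)
    (hE0inv : ∀ v ∈ E₀, ρ b v ∈ E₀) (hE0 : Nat.card E₀ = 27) : Cubic ρ b := by
  have hdim : finrank (ZMod 3) E₀ = 3 := by
    have h := Module.natCard_eq_pow_finrank (K := ZMod 3) (V := E₀)
    rw [hE0, Nat.card_zmod] at h
    exact (Nat.pow_right_injective (le_refl 2 |>.trans (by norm_num)) (h.symm.trans (by norm_num)))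
  let g : E₀ →ₗ[ZMod 3] E₀ :=
    (nb ρ b).restrict fun w hw => sub_mem (hE0inv w hw) hw
  have hg3 : ∀ v : E₀, g (g (g v)) = 0 := fun v => Subtype.ext (by
    show nb ρ b (nb ρ b (nb ρ b (v : E))) = 0
    have hthree : ρ b (ρ b (ρ b (v : E))) = v := by
      calc ρ b (ρ b (ρ b (v : E))) = ρ (b ^ 3) (v : E) := by simp [pow_succ, rho_mul]
        _ = v := by rw [hb3, rho_one]
    rw [nb_apply, ← LinearMap.comp_apply (nb ρ b) (nb ρ b)]
    rw [nb_nb_apply, map_add, map_add, hthree]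
    abel)
  have hrange : LinearMap.range (nb ρ b) = (LinearMap.range g).map E₀.subtype := by
    refine le_antisymm ?_ ?_
    · rintro _ ⟨v, rfl⟩
      obtain ⟨x, hx, y, hy, rfl⟩ := Submodule.mem_sup.mp
        (hE01'.ge (Submodule.mem_top : v ∈ (⊤ : Submodule (ZMod 3) E)))
      refine ⟨g ⟨x, hx⟩, ⟨_, rfl⟩, ?_⟩
      show nb ρ b x = nb ρ b (x + y)
      rw [map_add, show nb ρ b y = 0 by rw [nb_apply, hE1 y hy, sub_self], add_zero]
    · rintro _ ⟨_, ⟨v, rfl⟩, rfl⟩
      exact ⟨(v : E), rfl⟩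
  have hker : finrank (ZMod 3) (LinearMap.ker g) ≠ 0 := by
    intro h0
    have hinj : Function.Injective g := LinearMap.ker_eq_bot.mp (Submodule.finrank_eq_zero.mp h0)
    have hb0 : ∀ v : E₀, v = 0 := fun v => by
      have h := hg3 v
      rw [← map_zero g] at h
      have h' := hinj h
      rw [← map_zero g] at h'
      exact hinj (hinj h' |>.trans (map_zero g).symm)
    have : finrank (ZMod 3) E₀ = 0 := finrank_zero_iff_forall_zero.mpr hb0
    omega
  have hrk := g.finrank_range_add_finrank_ker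
  have h2 : finrank (ZMod 3) (LinearMap.range (nb ρ b)) ≤ 2 := by
    rw [hrange, Submodule.finrank_map_subtype_eq]; omega
  refine ⟨hb3, hfaith, h2, ?_⟩
  set R := LinearMap.range (nb ρ b)
  have hcomp : LinearMap.range (nb ρ b ∘ₗ nb ρ b) = R.map (nb ρ b) := LinearMap.range_comp _ _
  rw [hcomp]
  let h : R →ₗ[ZMod 3] R := (nb ρ b).restrict fun w _ => ⟨w, rfl⟩
  have hmap : R.map (nb ρ b) = (LinearMap.range h).map R.subtype := by
    refine le_antisymm ?_ ?_
    · rintro _ ⟨w, hw, rfl⟩; exact ⟨h ⟨w, hw⟩, ⟨_, rfl⟩, rfl⟩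
    · rintro _ ⟨_, ⟨w, rfl⟩, rfl⟩; exact ⟨w, w.2, rfl⟩
  rw [hmap, Submodule.finrank_map_subtype_eq]
  have hrk' := h.finrank_range_add_finrank_ker
  by_contra hc
  have hk0 : finrank (ZMod 3) (LinearMap.ker h) = 0 := by omega
  have hinj : Function.Injective h := LinearMap.ker_eq_bot.mp (Submodule.finrank_eq_zero.mp hk0)
  have hall : ∀ w : R, w = 0 := by
    rintro ⟨w, hw⟩
    obtain ⟨_, ⟨v, rfl⟩, rfl⟩ := hrange.le hw
    refine hinj (hinj (Subtype.ext ?_) |>.trans (map_zero h).symm)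
    show nb ρ b (nb ρ b ((g v : E₀) : E)) = _
    simp only [map_zero, ZeroMemClass.coe_zero]
    exact congrArg Subtype.val (hg3 v)
  have : finrank (ZMod 3) R = 0 := finrank_zero_iff_forall_zero.mpr hall
  omega

/-- A four-group normalized but not centralized by `b` gives a moved four-group. -/
theorem exists_kd {b : S} (hb3 : b ^ 3 = 1) {Q : Subgroup S} (hQ : Cfsg.IsElementaryAbelian 2 Q)
    (hQ4 : Nat.card Q = 4) (hBQ : zpowers b ≤ normalizer (Q : Set S))
    (hBQ' : ¬ zpowers b ≤ centralizer (Q : Set S)) :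
    ∃ q, q ∈ Q ∧ KD b q ∧ four b q = Q := by
  have hQb : BInv b Q := BInv.of_normalizer hBQ
  obtain ⟨q, hq, hne⟩ : ∃ q ∈ Q, cj b q ≠ q := by
    by_contra h
    push Not at h
    exact hBQ' (zpowers_le.mpr (mem_centralizer_iff.mpr fun x hx =>
      (commute_of_cj_eq (h x hx)).symm))
  have hQc := hQ.1
  have hc : ∀ x ∈ Q, ∀ y ∈ Q, x * y = y * x := fun x hx y hy =>
    congrArg Subtype.val (hQc.is_comm.comm (⟨x, hx⟩ : Q) ⟨y, hy⟩)
  have hs : ∀ x ∈ Q, x * x = 1 := fun x hx => by rw [← pow_two]; exact hQ.2 x hx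
  have hq' := hQb q hq
  have hq'' := hQb _ hq'
  have hq1 : q ≠ 1 := fun h => hne (by rw [h, cj_one])
  have hall : ∀ x ∈ Q, x = 1 ∨ x = q ∨ x = cj b q ∨ x = q * cj b q := by
    intro x hx
    by_contra h
    push Not at h
    obtain ⟨h1, h2, h3, h4⟩ := h
    classical
    let s : Finset Q := {1, ⟨q, hq⟩, ⟨cj b q, hq'⟩, ⟨q * cj b q, mul_mem hq hq'⟩, ⟨x, hx⟩}
    have e1 : cj b q ≠ 1 := fun h => hq1 (by rw [← cj_three hb3 q, h, cj_one, cj_one])
    have e2 : q * cj b q ≠ 1 := fun h => hne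
      ((eq_inv_of_mul_eq_one_right h).trans (inv_eq_of_mul_eq_one_right (hs q hq)))
    have hs5 : s.card = 5 := by
      simp [s, Subtype.ext_iff, hq1.symm, e1.symm, e2.symm, hne.symm, h1.symm, h2.symm, h3.symm,
        h4.symm, hq1, e1]
    have := Finset.card_le_univ s
    rw [hs5, ← Nat.card_eq_fintype_card, hQ4] at this
    omega
  have hprod : cj b (cj b q) = q * cj b q := by
    rcases hall _ hq'' with h | h | h | h
    · exact absurd (by rw [← cj_three hb3 q, h, cj_one] : q = 1) hq1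
    · have h' := congrArg (cj b) h
      rw [cj_three hb3] at h'
      exact absurd h'.symm hne
    · have h' := congrArg (fun y => cj b (cj b y)) h
      simp only [cj_three hb3] at h'
      exact absurd h' hne
    · exact h
  have hkd : KD b q := ⟨hq1, hs q hq, hc q hq _ hq', hprod⟩
  refine ⟨q, hq, hkd, le_antisymm (four_le hQb hq) fun x hx => ?_⟩
  rcases hall x hx with rfl | rfl | rfl | rfl
  exacts [one_mem _, mem_four_left b x, mem_four_right b q,
    mul_mem (mem_four_left b q) (mem_four_right b q)]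

/-- A moved four-group lies in the `3'`-core when `b` is central in a Sylow `3`-subgroup. -/
theorem mem_pPrimeCore [Group.IsSolvable S] {b q : S} (hb3 : b ^ 3 = 1) (hq : KD b q)
    (P : Sylow 3 S) (hbP : ∀ x ∈ (P : Subgroup S), x * b = b * x) :
    q ∈ Cfsg.pPrimeCore 3 S := by
  haveI := Fact.mk Nat.prime_three
  set H := Cfsg.pPrimeCore 3 S
  let π := QuotientGroup.mk' H
  set T := Cfsg.pCore 3 (S ⧸ H)
  have hC := Thompson.centralizer_pCore_le (p := 3) (G := S ⧸ H)
    (OddLocal44.isPSolvable_of_isSolvable (p := 3)) Thompson.pPrimeCore_quotient_pPrimeCore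
  have hbT : π b ∈ T := by
    refine hC (mem_centralizer_iff.mpr fun t ht => ?_)
    obtain ⟨x, hx, rfl⟩ := (Thompson.pCore_le_sylow
      (P.mapSurjective (QuotientGroup.mk'_surjective H))) ht
    rw [← map_mul, ← map_mul, hbP x hx]
  have hTn : T.Normal := Thompson.sSup_normal fun N hN => hN.1
  have h1 : π (q * cj b q) ∈ T := by
    have hi : q * cj b q = q * b * q⁻¹ * b⁻¹ := by
      rw [inv_eq_of_mul_eq_one_right hq.sq]; simp [cj, mul_assoc]
    rw [hi, map_mul, map_mul, map_mul, map_inv, map_inv]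
    exact mul_mem (hTn.conj_mem _ hbT _) (inv_mem hbT)
  have h2 : q * cj b q ∈ H := by
    refine (QuotientGroup.eq_one_iff _).mp ?_
    show π (q * cj b q) = 1
    have hT3 : IsPGroup 3 T := Thompson.isPGroup_pCore
    obtain ⟨k, hk⟩ := hT3 ⟨_, h1⟩
    have e3 : π (q * cj b q) ^ 3 ^ k = 1 := congrArg Subtype.val hk
    have e2 : π (q * cj b q) ^ 2 = 1 := by rw [pow_two, ← map_mul, hq.sq'', map_one]
    have h := pow_gcd_eq_one.mpr ⟨e2, e3⟩
    rwa [((by norm_num : Nat.Coprime 2 3).pow_right k).gcd_eq_one, pow_one] at h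
  have hHn : H.Normal := Thompson.sSup_normal fun N hN => hN.1
  have h3 := hHn.conj_mem _ h2 b
  rw [show b * (q * cj b q) * b⁻¹ = cj b (q * cj b q) from rfl, hq.cj_prod hb3] at h3
  exact h3

/-- The commutator of `H` with `b` is that of an invariant Sylow `2`-subgroup. -/
theorem exists_two_group {b q : S} (hb : Cubic ρ b) (hq : KD b q) {H : Subgroup S}
    (hH3 : ¬ 3 ∣ Nat.card H) (hHsol : Group.IsSolvable H) (hHb : BInv b H) (hqH : q ∈ H) :
    IsPGroup 2 (⁅H, zpowers b⁆ : Subgroup S) := by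
  have hb3 := hb.pow_three
  haveI := Fact.mk Nat.prime_two
  have hN := hHb.le_normalizer hb3
  have hcop := coprime_zpowers hb3 hH3
  obtain ⟨P2, hP2⟩ := Coprime.exists_invariant_sylow (zpowers b) H hN hcop (Or.inr hHsol) 2
  set PS := (P2 : Subgroup H).map H.subtype
  have hPS2 : IsPGroup 2 PS := P2.isPGroup'.map H.subtype
  have hPSinv : BInv b PS := BInv.of_normalizer hP2
  set C : Subgroup H := (centralizer (zpowers b : Set S)).subgroupOf H
  -- `C` contains Sylow subgroups for all odd primes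
  have hodd : ∀ r k : ℕ, r.Prime → r ^ k ∣ (P2 : Subgroup H).index → r ^ k ∣ Nat.card C := by
    intro r k hr hk
    rcases eq_or_ne r 2 with rfl | hr2
    · rcases Nat.eq_zero_or_pos k with rfl | hk0
      · rw [pow_zero]; exact one_dvd _
      · exact absurd ((dvd_pow_self 2 hk0.ne').trans hk) P2.not_dvd_index
    haveI := Fact.mk hr
    obtain ⟨R, hR⟩ := Coprime.exists_invariant_sylow (zpowers b) H hN hcop (Or.inr hHsol) r
    have hRc := odd_central hb hq hH3 hHsol hHb hqH hr2 _ (map_subtype_le _)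
      (R.isPGroup'.map H.subtype) (BInv.of_normalizer hR)
    rw [commutator_eq_bot_iff_le_centralizer] at hRc
    have hRC : (R : Subgroup H) ≤ C := fun x hx => hRc ⟨x, hx, rfl⟩
    refine (R.pow_dvd_card_of_pow_dvd_card ?_).trans (card_dvd_of_le hRC)
    exact hk.trans (index_dvd_card _)
  have hm : (P2 : Subgroup H).index ∣ Nat.card C :=
    (Nat.dvd_iff_prime_pow_dvd_dvd _ _).mpr fun r k hr hk => hodd r k hr hk
  set C0 := C.subgroupOf (P2 : Subgroup H)
  have hC0 : Nat.card C0 = Nat.card ((P2 : Subgroup H) ⊓ C : Subgroup H) := by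
    rw [← Nat.card_congr (subgroupOfEquivOfLe
      (inf_le_left : (P2 : Subgroup H) ⊓ C ≤ (P2 : Subgroup H))).toEquiv, inf_subgroupOf_left]
  -- the index of `C` is at most that of `P ⊓ C` in `P`
  have hle : Nat.card (H ⧸ C) ≤ Nat.card ((P2 : Subgroup H) ⧸ C0) := by
    have hdvd : Nat.card ((P2 : Subgroup H) ⊓ C : Subgroup H) * (P2 : Subgroup H).index ∣
        Nat.card C := by
      refine Nat.Coprime.mul_dvd_of_dvd_of_dvd ?_ (card_dvd_of_le inf_le_right) hm
      obtain ⟨i, hi⟩ := IsPGroup.iff_card.mp (P2.isPGroup'.to_le (inf_le_left : _ ⊓ C ≤ _))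
      rw [hi]
      exact Nat.Coprime.pow_left i ((Nat.Prime.coprime_iff_not_dvd Nat.prime_two).mpr
        P2.not_dvd_index)
    have hle' := Nat.le_of_dvd Nat.card_pos hdvd
    have e1 : Nat.card (H ⧸ C) * Nat.card C = Nat.card H :=
      (Subgroup.card_eq_card_quotient_mul_card_subgroup C).symm
    have e2 : Nat.card ((P2 : Subgroup H) ⧸ C0) * Nat.card C0 = Nat.card (P2 : Subgroup H) :=
      (Subgroup.card_eq_card_quotient_mul_card_subgroup C0).symm
    have e3 := (P2 : Subgroup H).card_mul_index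
    rw [hC0] at e2
    refine Nat.le_of_mul_le_mul_right ?_ (Nat.pos_of_ne_zero
      (Nat.ne_zero_of_lt (Nat.mul_pos (Nat.card_pos (α := ((P2 : Subgroup H) ⊓ C : Subgroup H)))
        (Nat.pos_of_ne_zero (index_ne_zero_of_finite (H := (P2 : Subgroup H)))))))
    calc Nat.card (H ⧸ C) * (Nat.card ((P2 : Subgroup H) ⊓ C : Subgroup H) * (P2 : Subgroup H).index)
        ≤ Nat.card (H ⧸ C) * Nat.card C := Nat.mul_le_mul_left _ hle'
      _ = Nat.card (P2 : Subgroup H) * (P2 : Subgroup H).index := by rw [e1, e3]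
      _ = _ := by rw [← e2, mul_assoc]
  let f : (P2 : Subgroup H) ⧸ C0 → H ⧸ C :=
    Quotient.map' Subtype.val fun x y h => by
      rw [QuotientGroup.leftRel_apply] at h ⊢
      exact h
  have hfinj : Function.Injective f := fun u v => Quotient.inductionOn₂' u v fun x y h => by
    apply Quotient.sound'
    have h' := Quotient.exact' h
    rw [QuotientGroup.leftRel_apply] at h' ⊢
    exact h'
  have hfsurj : Function.Surjective f :=
    ((Nat.bijective_iff_injective_and_card f).mpr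
      ⟨hfinj, le_antisymm (Nat.card_le_card_of_injective f hfinj) hle⟩).2
  refine (hPS2.to_le (commutator_le_self hb3 hPSinv)).to_le
    (commutator_le.mpr fun h hh β hβ => ?_)
  obtain ⟨u, hu⟩ := hfsurj (QuotientGroup.mk (⟨h, hh⟩ : H))
  induction u using Quotient.inductionOn' with
  | h x =>
    have hc : ((x : H))⁻¹ * ⟨h, hh⟩ ∈ C := QuotientGroup.eq.mp hu
    set c : S := ((x : H) : S)⁻¹ * h with hcdef
    have hcc : c ∈ centralizer (zpowers b : Set S) := hc
    have hcomm : c * β = β * c := (mem_centralizer_iff.mp hcc β hβ).symm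
    have e : ⁅h, β⁆ = ⁅((x : H) : S), β⁆ := by
      rw [show h = ((x : H) : S) * c by rw [hcdef, mul_inv_cancel_left], commutatorElement_def,
        commutatorElement_def, mul_assoc _ c β, hcomm]
      group
    rw [e]
    exact commutator_mem_commutator ⟨(x : H), x.2, rfl⟩ hβ

/-- The theorem. -/
theorem main [Group.IsSolvable S] (hfaith : Function.Injective ρ)
    (b : S) (hb : Nat.card (zpowers b) = 3) (E₀ E₁ : Submodule (ZMod 3) E)
    (hE01' : E₀ ⊔ E₁ = ⊤) (hE1 : ∀ v ∈ E₁, ρ b v = v)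
    (hE0inv : ∀ v ∈ E₀, ρ b v ∈ E₀) (hE0 : Nat.card E₀ = 27)
    (Q : Subgroup S) (hQ : Cfsg.IsElementaryAbelian 2 Q) (hQ4 : Nat.card Q = 4)
    (hBQ : zpowers b ≤ normalizer (Q : Set S)) (hBQ' : ¬ zpowers b ≤ centralizer (Q : Set S))
    (P : Sylow 3 S)
    (hBZ : (center (P : Subgroup S)).map (P : Subgroup S).subtype = zpowers b) :
    ((Cfsg.IsElementaryAbelian 2 ⁅Cfsg.pPrimeCore 3 S, zpowers b⁆ ∧
        Nat.card (⁅Cfsg.pPrimeCore 3 S, zpowers b⁆ : Subgroup S) = 4) ∨
      (Cfsg.IsExtraspecial 2 (⁅Cfsg.pPrimeCore 3 S, zpowers b⁆ : Subgroup S) ∧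
        Nat.card (⁅Cfsg.pPrimeCore 3 S, zpowers b⁆ : Subgroup S) = 32 ∧
        ∃ A : Subgroup S, A ≤ ⁅Cfsg.pPrimeCore 3 S, zpowers b⁆ ∧
          Cfsg.IsElementaryAbelian 2 A ∧ Nat.card A = 8)) ∧
    ∃ F₀ F₁ : Submodule (ZMod 3) E, F₀ ⊓ F₁ = ⊥ ∧ F₀ ⊔ F₁ = ⊤ ∧
      (∀ r ∈ ⁅Cfsg.pPrimeCore 3 S, zpowers b⁆, ∀ v ∈ F₁, ρ r v = v) ∧
      (∀ r ∈ ⁅Cfsg.pPrimeCore 3 S, zpowers b⁆ ⊔ zpowers b, ∀ v ∈ F₀, ρ r v ∈ F₀) ∧
      (∀ r ∈ ⁅Cfsg.pPrimeCore 3 S, zpowers b⁆ ⊔ zpowers b, (∀ v ∈ F₀, ρ r v = v) → r = 1) ∧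
      (∀ N : Submodule (ZMod 3) E, N ≤ F₀ →
        (∀ r ∈ ⁅Cfsg.pPrimeCore 3 S, zpowers b⁆ ⊔ zpowers b, ∀ v ∈ N, ρ r v ∈ N) →
          N = ⊥ ∨ N = F₀) := by
  haveI := Fact.mk Nat.prime_three
  haveI := Fact.mk Nat.prime_two
  have hb3 : b ^ 3 = 1 := by
    rw [Nat.card_zpowers] at hb
    rw [← hb]
    exact pow_orderOf_eq_one b
  have hcub := cubic_of_block hfaith hb3 E₀ E₁ hE01' hE1 hE0inv hE0
  obtain ⟨q, -, hkd, hfour⟩ := exists_kd hb3 hQ hQ4 hBQ hBQ'
  have hbP : ∀ x ∈ (P : Subgroup S), x * b = b * x := by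
    obtain ⟨c, hc, hcb⟩ := hBZ.ge (mem_zpowers b)
    intro x hx
    rw [← hcb]
    exact congrArg Subtype.val (mem_center_iff.mp hc ⟨x, hx⟩)
  set H := Cfsg.pPrimeCore 3 S
  have hqH : q ∈ H := mem_pPrimeCore hb3 hkd P hbP
  have hHn : H.Normal := Thompson.sSup_normal fun N hN => hN.1
  have hHb : BInv b H := fun g hg => hHn.conj_mem g hg b
  have hH3 : ¬ 3 ∣ Nat.card H := Thompson.not_dvd_card_pPrimeCore
  have hHsol : Group.IsSolvable H := inferInstance
  have hD := exists_two_group hcub hkd hH3 hHsol hHb hqH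
  set D := ⁅H, zpowers b⁆
  have hinv : BInv b D := binv_commutator
  have hgen : ⁅D, zpowers b⁆ = D := commutator_idem hb3 hHb hH3
  have hqD : q ∈ D := mem_commutator_of_KD hkd (hHb q hqH)
  have hq'D := hinv q hqD
  have h3D := not_three_dvd_two_group hD
  refine ⟨?_, Mov ρ D, Fix ρ D, ?_, ?_, fun r hr v hv => hv r hr, ?_, ?_, ?_⟩
  · rcases structure_two hcub hkd hD hinv hgen hqD with h | h
    · have e : D = Q := hfour ▸ le_antisymm h (four_le hinv hqD)
      rw [e]
      exact Or.inl ⟨hQ, hQ4⟩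
    · exact Or.inr h
  · exact (Submodule.eq_bot_iff _).mpr fun v hv => eq_zero_of_fix_of_mov h3D hv.2 hv.1
  · refine eq_top_iff.mpr fun v _ => Submodule.mem_sup.mpr
      ⟨v - pr ρ D v, sub_pr_mem h3D v, pr ρ D v, pr_mem_fix D v, sub_add_cancel v _⟩
  · intro r hr v hv
    have hle : D ⊔ zpowers b ≤ normalizer (D : Set S) :=
      sup_le le_normalizer (hinv.le_normalizer hb3)
    exact mov_apply_mem h3D (fun g hg => (mem_normalizer_iff.mp (hle hr) g).mp hg) hv
  · intro r hr hfix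
    obtain ⟨d, hd, β, hβ, rfl⟩ := Coprime.exists_mul_of_mem_sup (hinv.le_normalizer hb3) hr
    refine eq_of_rho ρ hfaith fun v => ?_
    rw [rho_one]
    have hβfix : ∀ w ∈ Fix ρ D, ρ β w = w := fun w hw => by
      let St : Subgroup S :=
        { carrier := {g | ρ g w = w}
          one_mem' := rho_one ρ w
          mul_mem' := fun {g g'} hg hg' => by
            show ρ (g * g') w = w
            rw [rho_mul, show ρ g' w = w from hg', show ρ g w = w from hg]
          inv_mem' := fun {g} hg => by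
            show ρ g⁻¹ w = w
            conv_lhs => rw [← show ρ g w = w from hg]
            exact rho_inv_apply ρ g w }
      exact (zpowers_le.mpr (show b ∈ St from lineU_fixed hcub hkd (lineU_of_fix hqD hq'D hw))) hβ
    rw [← sub_add_cancel v (pr ρ D v), map_add, hfix _ (sub_pr_mem h3D v), rho_mul ρ d β (pr ρ D v),
      hβfix _ (pr_mem_fix D v), pr_mem_fix D v d hd]
  · intro N hN hNinv
    rcases eq_or_ne N ⊥ with h0 | h0
    · exact Or.inl h0
    refine Or.inr (le_antisymm hN ?_)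
    have hND : ∀ g ∈ D, ∀ w ∈ N, ρ g w ∈ N := fun g hg => hNinv g (mem_sup_left hg)
    have hNb : ∀ w ∈ N, ρ b w ∈ N := hNinv b (mem_sup_right (mem_zpowers b))
    by_cases hU : ∀ w ∈ N, w ∈ lineU ρ b q
    · exfalso
      refine h0 ((Submodule.eq_bot_iff _).mpr fun w hw => eq_zero_of_fix_of_mov h3D
        (fun g hg => fix_of_commutator (fun x hx => lineU_fixed hcub hkd (hU x hx)) hND g
          (hgen.ge hg) w hw) (hN hw))
    push Not at hU
    obtain ⟨w, hw, hwU⟩ := hU
    obtain ⟨a1, h1, a2, h2, a3, h3, u, hu, rfl⟩ := decomp hcub hkd w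
    have hk1 := hkd.shift hb3
    have hk2 := hk1.shift hb3
    have e1 : a2 + a3 ∈ N := by
      have h := sub_mem (hND q hqD _ hw) hw
      rw [map_add, map_add, map_add, h1.1, line'_q hcub hkd h2, (line''_q hcub hkd h3).1, hu.1] at h
      rw [show a1 + -a2 + -a3 + u - (a1 + a2 + a3 + u) = -(a2 + a2) + -(a3 + a3) by abel,
        ← neg_eq_add, ← neg_eq_add, neg_neg, neg_neg] at h
      exact h
    have hp2 : ρ (cj b q) a2 = a2 := h2.1
    have e2 : a1 + a3 ∈ N := by
      have h := sub_mem (hND (cj b q) hq'D _ hw) hw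
      rw [map_add, map_add, map_add, h1.2, hp2, (line''_q hcub hkd h3).2, hu.2] at h
      rw [show -a1 + a2 + -a3 + u - (a1 + a2 + a3 + u) = -(a1 + a1) + -(a3 + a3) by abel,
        ← neg_eq_add, ← neg_eq_add, neg_neg, neg_neg] at h
      exact h
    have e3 : a1 + a2 ∈ N := by
      have h := sub_mem (hND (q * cj b q) (mul_mem hqD hq'D) _ hw) hw
      simp only [rho_mul, map_add, map_neg, h1.1, h1.2, hp2, line'_q hcub hkd h2,
        (line''_q hcub hkd h3).1, (line''_q hcub hkd h3).2, hu.1, hu.2, neg_neg] at h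
      rw [show -a1 + -a2 + a3 + u - (a1 + a2 + a3 + u) = -(a1 + a1) + -(a2 + a2) by abel,
        ← neg_eq_add, ← neg_eq_add, neg_neg, neg_neg] at h
      exact h
    have m3 : a3 ∈ N := by
      have h := N.neg_mem (sub_mem (add_mem e1 e2) e3)
      rw [show a2 + a3 + (a1 + a3) - (a1 + a2) = a3 + a3 by abel, ← neg_eq_add, neg_neg] at h
      exact h
    have m1 : a1 ∈ N := by simpa using sub_mem e2 m3
    have m2 : a2 ∈ N := by simpa using sub_mem e1 m3
    obtain ⟨x, hx, hx0, hxN⟩ : ∃ x ∈ line ρ b q, x ≠ 0 ∧ x ∈ N := by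
      rcases eq_or_ne a1 0 with z1 | z1
      swap
      · exact ⟨a1, h1, z1, m1⟩
      rcases eq_or_ne a3 0 with z3 | z3
      swap
      · refine ⟨ρ b a3, ?_, fun h => z3 ?_, hNb _ m3⟩
        · simpa only [cj_three hb3] using rho_b_line b h3
        · rw [← rho_b_three hcub a3, h, map_zero, map_zero]
      rcases eq_or_ne a2 0 with z2 | z2
      swap
      · refine ⟨ρ b (ρ b a2), ?_, fun h => z2 ?_, hNb _ (hNb _ m2)⟩
        · simpa only [cj_three hb3] using rho_b_line b (rho_b_line b h2)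
        · rw [← rho_b_three hcub a2, h, map_zero]
      exact absurd (by rw [z1, z2, z3, zero_add, zero_add, zero_add]; exact hu) hwU
    have e : ρ b (ρ b x) ≠ 0 := fun h => hx0 (by rw [← rho_b_three hcub x, h, map_zero])
    have e' : ρ b x ≠ 0 := fun h => e (by rw [h, map_zero])
    have hVN : lineV ρ b q ≤ N := by
      refine sup_le (sup_le ?_ ?_) ?_
      · intro v hv
        obtain ⟨t, rfl⟩ := line_eq_smul hcub hkd hx hx0 hv
        exact N.smul_mem t hxN
      · intro v hv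
        obtain ⟨t, rfl⟩ := line_eq_smul hcub hk1 (rho_b_line b hx) e' hv
        exact N.smul_mem t (hNb _ hxN)
      · intro v hv
        obtain ⟨t, rfl⟩ := line_eq_smul hcub hk2 (rho_b_line b (rho_b_line b hx)) e hv
        exact N.smul_mem t (hNb _ (hNb _ hxN))
    exact mov_le_of_commutator h3D hgen
      (triv_mono ((range_nb_le hcub hkd).trans hVN) (mem_triv_range b)) hND

end Cfsg.Agent.CubicThree
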